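import Mathlib
import Cfsg.Prelude
import Cfsg.Agent.Lib.FGStruct.SixteenPoints

/-!
An element of order three with a single cubic Jordan block, and four-groups it rotates.
-/

set_option autoImplicit false
set_option linter.style.haveILetI false

open Module

namespace CfsgLib.FGStruct.CubicBlock

variable {S : Type*} [Group S] {E : Type*} [AddCommGroup E] [Module (ZMod 3) E]
  (ρ : Representation (ZMod 3) S E)

theorem apply_mul (g h : S) (x : E) : ρ (g * h) x = ρ g (ρ h x) := by rw [map_mul, Module.End.mul_apply]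

theorem apply_inv_self (g : S) (x : E) : ρ g⁻¹ (ρ g x) = x := by
  rw [← apply_mul, inv_mul_cancel, map_one, Module.End.one_apply]

theorem apply_self_inv (g : S) (x : E) : ρ g (ρ g⁻¹ x) = x := by
  rw [← apply_mul, mul_inv_cancel, map_one, Module.End.one_apply]

/-- Elements moving everything inside `U`. -/
def movesIn [Finite S] (U : Submodule (ZMod 3) E) : Subgroup S where
  carrier := {g | ∀ x, ρ g x - x ∈ U}
  one_mem' := fun x => by rw [map_one, Module.End.one_apply, sub_self]; exact zero_mem U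
  mul_mem' := fun {g h} hg hh x => by
    rw [apply_mul, show ρ g (ρ h x) - x = (ρ g (ρ h x) - ρ h x) + (ρ h x - x) by abel]
    exact add_mem (hg _) (hh _)
  inv_mem' := fun {g} hg => by
    have hpow : ∀ n : ℕ, ∀ x, ρ (g ^ n) x - x ∈ U := by
      intro n
      induction n with
      | zero => intro x; rw [pow_zero, map_one, Module.End.one_apply, sub_self]; exact zero_mem U
      | succ n ih =>
        intro x
        rw [pow_succ, apply_mul, show ρ (g ^ n) (ρ g x) - x = (ρ (g ^ n) (ρ g x) - ρ g x) + (ρ g x - x) by abel]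
        exact add_mem (ih _) (hg _)
    obtain ⟨n, hn⟩ := (mem_powers_iff_mem_zpowers.2 (inv_mem (Subgroup.mem_zpowers g)) : g⁻¹ ∈ Submonoid.powers g)
    intro x
    show ρ g⁻¹ x - x ∈ U
    rw [← hn]
    exact hpow n x

/-- The image of `ρ g - 1`. -/
def blk (g : S) : Submodule (ZMod 3) E := LinearMap.range (ρ g - 1)

theorem sub_mem_blk (g : S) (x : E) : ρ g x - x ∈ blk ρ g := ⟨x, by simp⟩

variable [Finite S]

theorem mem_movesIn {U : Submodule (ZMod 3) E} {g : S} : g ∈ movesIn ρ U ↔ ∀ x, ρ g x - x ∈ U := Iff.rfl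

theorem movesIn_mono {U V : Submodule (ZMod 3) E} (h : U ≤ V) : movesIn ρ U ≤ movesIn ρ V :=
  fun _ hg x => h (hg x)

theorem mem_movesIn_blk (g : S) : g ∈ movesIn ρ (blk ρ g) := sub_mem_blk ρ g

theorem conj_mem_movesIn (y g : S) : y * g * y⁻¹ ∈ movesIn ρ ((blk ρ g).map (ρ y)) := by
  intro x
  refine ⟨_, sub_mem_blk ρ g (ρ y⁻¹ x), ?_⟩
  rw [map_sub, apply_self_inv, apply_mul, apply_mul]

/-- A `3'`-group moving things inside `U` embeds in the linear group of `U`. -/
theorem card_dvd_of_moves [Finite E] (hf : Function.Injective ρ) {U : Submodule (ZMod 3) E} {n : ℕ}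
    (hn : finrank (ZMod 3) U = n) {K : Subgroup S} (hK : (Nat.card K).Coprime 3) (hmv : K ≤ movesIn ρ U) :
    Nat.card K ∣ ∏ i ∈ Finset.range n, (3 ^ n - 3 ^ i) := by
  haveI : Fact (Nat.Prime 3) := ⟨Nat.prime_three⟩
  have hinv : ∀ g ∈ K, ∀ x ∈ U, ρ g x ∈ U := fun g hg x hx => by
    rw [show ρ g x = (ρ g x - x) + x by abel]; exact add_mem (hmv hg x) hx
  let T := Multiplicative U
  let ψ : K →* MulAut T :=
    { toFun := fun g =>
        { toFun := fun x => Multiplicative.ofAdd ⟨ρ g (x.toAdd : U), hinv g g.2 _ (x.toAdd : U).2⟩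
          invFun := fun x => Multiplicative.ofAdd ⟨ρ (g⁻¹ : K) (x.toAdd : U), hinv _ (g⁻¹).2 _ (x.toAdd : U).2⟩
          left_inv := fun x => congrArg Multiplicative.ofAdd (Subtype.ext (apply_inv_self ρ (g : S) _))
          right_inv := fun x => congrArg Multiplicative.ofAdd (Subtype.ext (apply_self_inv ρ (g : S) _))
          map_mul' := fun x y => congrArg Multiplicative.ofAdd (Subtype.ext (map_add (ρ (g : S)) _ _)) }
      map_one' := MulEquiv.ext fun x => congrArg Multiplicative.ofAdd (Subtype.ext (by simp))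
      map_mul' := fun g h => MulEquiv.ext fun x => congrArg Multiplicative.ofAdd (Subtype.ext
        (apply_mul ρ (g : S) (h : S) _)) }
  have hψ : Function.Injective ψ := by
    refine (injective_iff_map_eq_one ψ).2 fun g hg => ?_
    have hU : ∀ x ∈ U, ρ (g : S) x = x := fun x hx =>
      congrArg (fun f : MulAut T => (((f (Multiplicative.ofAdd ⟨x, hx⟩)).toAdd : U) : E)) hg
    refine Subtype.ext (hf (LinearMap.ext fun x => ?_))
    rw [OneMemClass.coe_one, map_one, Module.End.one_apply]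
    set d := ρ (g : S) x - x with hd
    have hpow : ∀ k : ℕ, ρ ((g : S) ^ k) x = x + k • d := by
      intro k
      induction k with
      | zero => simp
      | succ k ih =>
        rw [pow_succ', apply_mul, ih, map_add, map_nsmul, hU d (hmv g.2 x),
          show ρ (g : S) x = x + d by rw [hd]; abel, succ_nsmul]
        abel
    have h1 := hpow (Nat.card K)
    rw [show (g : S) ^ Nat.card K = 1 from congrArg Subtype.val (pow_card_eq_one' (x := g)), map_one,
      Module.End.one_apply, eq_comm, add_eq_left, ← Nat.cast_smul_eq_nsmul (ZMod 3)] at h1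
    have h2 : (Nat.card K : ZMod 3) ≠ 0 := by
      rw [Ne, ZMod.natCast_eq_zero_iff]
      exact fun h => (Nat.Prime.coprime_iff_not_dvd Nat.prime_three).1 hK.symm h
    rw [smul_eq_zero] at h1
    exact sub_eq_zero.1 (h1.resolve_left h2)
  refine (Subgroup.card_dvd_of_injective ψ hψ).trans (Sixteen.card_mulAut_dvd ?_ (fun a b => mul_comm a b) ?_)
  · show Nat.card U = 3 ^ n
    rw [Module.natCard_eq_pow_finrank (K := ZMod 3) (V := U), hn, Nat.card_zmod]
  · intro a
    apply Multiplicative.toAdd.injective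
    rw [toAdd_pow, toAdd_one, ← Nat.cast_smul_eq_nsmul (ZMod 3), ZMod.natCast_self, zero_smul]

theorem dvd_of_finrank_le_four [Finite E] (hf : Function.Injective ρ) {U : Submodule (ZMod 3) E}
    (hn : finrank (ZMod 3) U ≤ 4) {K : Subgroup S} (hK : (Nat.card K).Coprime 3) (hmv : K ≤ movesIn ρ U) :
    Nat.card K ∣ 2 ^ 9 * 5 * 13 := by
  have h := card_dvd_of_moves ρ hf rfl hK hmv
  have h2 : Nat.card K ∣ (2 ^ 9 * 5 * 13) * 3 ^ 6 := by
    interval_cases (finrank (ZMod 3) U) <;>
      exact h.trans (by simp [Finset.prod_range_succ])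
  exact (hK.pow_right 6).dvd_of_dvd_mul_right h2

theorem dvd_of_finrank_le_five [Finite E] (hf : Function.Injective ρ) {U : Submodule (ZMod 3) E}
    (hn : finrank (ZMod 3) U ≤ 5) {K : Subgroup S} (hK : (Nat.card K).Coprime 3) (hmv : K ≤ movesIn ρ U) :
    Nat.card K ∣ 2 ^ 10 * 5 * 11 ^ 2 * 13 := by
  have h := card_dvd_of_moves ρ hf rfl hK hmv
  have h2 : Nat.card K ∣ (2 ^ 10 * 5 * 11 ^ 2 * 13) * 3 ^ 10 := by
    interval_cases (finrank (ZMod 3) U) <;>
      exact h.trans (by simp [Finset.prod_range_succ])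
  exact (hK.pow_right 10).dvd_of_dvd_mul_right h2

/-- A four-group `⟨u, b u b⁻¹⟩` rotated by `b`. -/
structure Four (b u : S) : Prop where
  sq : u * u = 1
  ne : u ≠ 1
  comm : u * (b * u * b⁻¹) = (b * u * b⁻¹) * u
  rot : b * (b * u * b⁻¹) * b⁻¹ = u * (b * u * b⁻¹)

/-- The three lines of a four-group. -/
structure Lines (b u : S) (e : E) : Prop where
  ne : e ≠ 0
  fix : ρ u e = e
  neg : ρ (b * u * b⁻¹) e = -e
  decomp : ∀ x : E, ∃ (α β γ : ZMod 3) (c : E), x = α • e + β • ρ b e + γ • ρ b (ρ b e) + c ∧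
    ρ u c = c ∧ ρ (b * u * b⁻¹) c = c
  line : ∀ x : E, ρ u x = x → ρ (b * u * b⁻¹) x = -x → ∃ α : ZMod 3, x = α • e
  fixed : ∀ c : E, ρ u c = c → ρ (b * u * b⁻¹) c = c → ρ b c = c

theorem two_smul_self (x : E) : x + x = -x := by
  rw [← two_smul (ZMod 3) x, show (2 : ZMod 3) = -1 by decide, neg_one_smul]

/-- The line decomposition of a four-group rotated by an element with a two-dimensional `[E, b]`. -/
theorem exists_lines [Finite E] (hf : Function.Injective ρ) {b u : S} (hb3 : b ^ 3 = 1)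
    (hblk : finrank (ZMod 3) (blk ρ b) ≤ 2) (hu : Four b u) : ∃ e, Lines ρ b u e := by
  classical
  set v := b * u * b⁻¹ with hv
  set U := ρ u
  set V := ρ v
  have hUU : ∀ x, U (U x) = x := fun x => by
    show ρ u (ρ u x) = x
    rw [← apply_mul, hu.sq, map_one, Module.End.one_apply]
  have hVV : ∀ x, V (V x) = x := fun x => by
    show ρ v (ρ v x) = x
    rw [← apply_mul, hv, show b * u * b⁻¹ * (b * u * b⁻¹) = b * (u * u) * b⁻¹ by group, hu.sq, mul_one,
      mul_inv_cancel, map_one, Module.End.one_apply]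
  have hUV : ∀ x, U (V x) = V (U x) := fun x => by
    show ρ u (ρ v x) = ρ v (ρ u x)
    rw [← apply_mul, ← apply_mul, hv, hu.comm]
  have hbU : ∀ x, ρ b (U x) = V (ρ b x) := fun x => by
    show ρ b (ρ u x) = ρ v (ρ b x)
    rw [← apply_mul, ← apply_mul, hv, inv_mul_cancel_right]
  have hbV : ∀ x, ρ b (V x) = U (V (ρ b x)) := fun x => by
    show ρ b (ρ v x) = ρ u (ρ v (ρ b x))
    rw [← apply_mul, ← apply_mul, ← apply_mul]
    congr 2
    calc b * v = (b * v * b⁻¹) * b := by group
      _ = u * v * b := by rw [hv, hu.rot]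
      _ = _ := by group
  have hb3' : ∀ x, ρ b (ρ b (ρ b x)) = x := fun x => by
    rw [← apply_mul, ← apply_mul, show b * b * b = b ^ 3 by rw [pow_three'], hb3, map_one, Module.End.one_apply]
  -- the joint eigenspaces
  let L : Submodule (ZMod 3) E :=
    { carrier := {x | U x = x ∧ V x = -x}
      add_mem' := fun {x y} hx hy => ⟨by rw [map_add, hx.1, hy.1], by rw [map_add, hx.2, hy.2, neg_add]⟩
      zero_mem' := ⟨map_zero _, by rw [map_zero, neg_zero]⟩
      smul_mem' := fun a x hx => ⟨by rw [map_smul, hx.1], by rw [map_smul, hx.2, smul_neg]⟩ }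
  have hb1 : ∀ x ∈ L, V (ρ b x) = ρ b x ∧ U (ρ b x) = -ρ b x := by
    intro x hx
    have h1 : V (ρ b x) = ρ b x := by rw [← hbU, hx.1]
    refine ⟨h1, ?_⟩
    have h2 := hbV x
    rw [hx.2, map_neg, h1] at h2
    exact h2.symm
  have hb2 : ∀ x ∈ L, U (ρ b (ρ b x)) = -ρ b (ρ b x) ∧ V (ρ b (ρ b x)) = -ρ b (ρ b x) := by
    intro x hx
    obtain ⟨h1, h1'⟩ := hb1 x hx
    have hV : V (ρ b (ρ b x)) = -ρ b (ρ b x) := by rw [← hbU, h1', map_neg]
    refine ⟨?_, hV⟩
    have h3 := hbV (ρ b x)
    rw [h1, hV, map_neg] at h3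
    rw [← neg_eq_iff_eq_neg.2 h3]
  have hsplit : ∀ x : E, ∃ (l1 l2 l3 c : E), x = l1 + ρ b l2 + ρ b (ρ b l3) + c ∧ l1 ∈ L ∧ l2 ∈ L ∧ l3 ∈ L ∧
      U c = c ∧ V c = c := by
    intro x
    have hproj : ∀ z : E, z + U z - V (z + U z) ∈ L := by
      intro z
      refine ⟨?_, ?_⟩
      · simp only [map_sub, map_add, hUU, hUV]
        abel
      · simp only [map_sub, map_add, hVV]
        abel
    set P := fun z : E => z + U z - V (z + U z) with hP
    refine ⟨P x, P (ρ b (ρ b x)), P (ρ b x), x + U x + V (x + U x), ?_, hproj _, hproj _, hproj _, ?_, ?_⟩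
    · have e2 : ρ b (P (ρ b (ρ b x))) = x + V x - U (V (x + V x)) := by
        simp only [hP, map_sub, map_add, hbU, hbV, hb3']
      have e3 : ρ b (ρ b (P (ρ b x))) = x + U (V x) - U x - V x := by
        simp only [hP, map_sub, map_add, hbU, hbV, hb3', hVV, hUV, hUU]
        abel
      rw [e2, e3]
      simp only [hP, map_add, hVV, hUV, hUU]
      have h4 : x + x + x + x = x := by
        rw [two_smul_self x, neg_add_cancel, zero_add]
      conv_lhs => rw [← h4]
      abel
    · simp only [map_add, hUU, hUV]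
      abel
    · simp only [map_add, hVV]
      abel
  -- `C`-components
  let Pc : E → E := fun z => z + U z + V (z + U z)
  have hPadd : ∀ a c, Pc (a + c) = Pc a + Pc c := fun a c => by simp only [Pc, map_add]; abel
  have hP1 : ∀ l ∈ L, Pc l = 0 := fun l hl => by
    simp only [Pc, map_add, hl.1, hl.2]; abel
  have hP2 : ∀ l ∈ L, Pc (ρ b l) = 0 := fun l hl => by
    simp only [Pc, map_add, (hb1 l hl).1, (hb1 l hl).2, map_neg]; abel
  have hP3 : ∀ l ∈ L, Pc (ρ b (ρ b l)) = 0 := fun l hl => by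
    simp only [Pc, map_add, (hb2 l hl).1, (hb2 l hl).2, map_neg]; abel
  have hP4 : ∀ c, U c = c → V c = c → Pc c = c := fun c h1 h2 => by
    simp only [Pc, map_add, h1, h2]
    rw [two_smul_self, two_smul_self, neg_neg]
  -- `[E, b]` contains a copy of `L × L`
  let f : E →ₗ[ZMod 3] E := ρ b - 1
  have hfx : ∀ x, f x = ρ b x - x := fun x => by simp [f]
  let g : (L × L) →ₗ[ZMod 3] blk ρ b :=
    LinearMap.codRestrict (blk ρ b)
      (f.comp ((LinearMap.coprod L.subtype ((ρ b).comp L.subtype)) : (L × L) →ₗ[ZMod 3] E))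
      fun z => LinearMap.mem_range_self f _
  have hgapp : ∀ l m : L, ((g (l, m) : blk ρ b) : E) = (ρ b (l : E) - (l : E)) + (ρ b (ρ b (m : E)) - ρ b (m : E)) := by
    intro l m
    show f ((LinearMap.coprod L.subtype ((ρ b).comp L.subtype)) (l, m)) = _
    rw [LinearMap.coprod_apply, map_add, hfx, hfx]
    rfl
  have hg : Function.Injective g := by
    rw [injective_iff_map_eq_zero]
    rintro ⟨l, m⟩ h
    have h' : (ρ b (l : E) - (l : E)) + (ρ b (ρ b (m : E)) - ρ b (m : E)) = 0 := by
      rw [← hgapp, h]; rfl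
    -- separate with the first projection
    let P : E → E := fun z => z + U z - V (z + U z)
    have e : ∀ a c, P (a + c) = P a + P c := fun a c => by simp only [P, map_add]; abel
    have en : ∀ a, P (-a) = -P a := fun a => by simp only [P, map_neg, ← neg_add]; abel
    have p1 : ∀ z ∈ L, P z = z := fun z hz => by
      simp only [P, map_add, hz.1, hz.2, map_neg]
      rw [← neg_add, sub_neg_eq_add, two_smul_self, two_smul_self, neg_neg]
    have p2 : ∀ z ∈ L, P (ρ b z) = 0 := fun z hz => by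
      simp only [P, map_add, (hb1 z hz).1, (hb1 z hz).2, map_neg]; abel
    have p3 : ∀ z ∈ L, P (ρ b (ρ b z)) = 0 := fun z hz => by
      simp only [P, map_add, (hb2 z hz).1, (hb2 z hz).2, map_neg]; abel
    have hl : (l : E) = 0 := by
      have h1 := congrArg P h'
      simp only [sub_eq_add_neg, e, en, p1 _ l.2, p2 _ l.2, p2 _ m.2, p3 _ m.2, neg_zero, zero_add, add_zero] at h1
      simpa [P] using h1
    have hm : (m : E) = 0 := by
      rw [hl, map_zero, sub_zero, zero_add, sub_eq_zero] at h'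
      have := congrArg (ρ b) (congrArg (ρ b) h')
      rw [hb3', hb3'] at this
      have h2 := (hb1 m m.2).1
      rw [this] at h2
      have h5 : -(m : E) = m := m.2.2.symm.trans h2
      have : (m : E) + m = 0 := by nth_rw 1 [← h5]; rw [neg_add_cancel]
      rwa [two_smul_self, neg_eq_zero] at this
    exact Prod.ext (Subtype.ext hl) (Subtype.ext hm)
  have hdim : finrank (ZMod 3) L + finrank (ZMod 3) L ≤ 2 := by
    rw [← Module.finrank_prod]
    exact (LinearMap.finrank_le_finrank_of_injective hg).trans hblk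
  have hL : ∃ e ∈ L, e ≠ 0 := by
    by_contra h
    push Not at h
    refine hu.ne (hf (LinearMap.ext fun x => ?_))
    obtain ⟨l1, l2, l3, c, hx, h1, h2, h3, hc, -⟩ := hsplit x
    rw [h l1 h1, h l2 h2, h l3 h3, map_zero, map_zero, add_zero, add_zero, zero_add] at hx
    rw [map_one, Module.End.one_apply, hx]
    exact hc
  obtain ⟨e, heL, he⟩ := hL
  have hL1 : finrank (ZMod 3) L = 1 := by
    have : 0 < finrank (ZMod 3) L := Module.finrank_pos_iff_exists_ne_zero.2 ⟨⟨e, heL⟩, fun h => he (congrArg Subtype.val h)⟩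
    omega
  have hline : ∀ x ∈ L, ∃ α : ZMod 3, x = α • e := by
    intro x hx
    obtain ⟨α, hα⟩ := exists_smul_eq_of_finrank_eq_one hL1 (x := (⟨e, heL⟩ : L)) (fun h => he (congrArg Subtype.val h)) ⟨x, hx⟩
    exact ⟨α, (congrArg Subtype.val hα).symm⟩
  refine ⟨e, he, heL.1, heL.2, fun x => ?_, fun x h1 h2 => hline x ⟨h1, h2⟩, fun c h1 h2 => ?_⟩
  · obtain ⟨l1, l2, l3, c, hx, h1, h2, h3, hc⟩ := hsplit x
    obtain ⟨α, rfl⟩ := hline l1 h1
    obtain ⟨β, rfl⟩ := hline l2 h2
    obtain ⟨γ, rfl⟩ := hline l3 h3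
    exact ⟨α, β, γ, c, by rw [hx]; simp only [map_smul], hc⟩
  · have hc1 : U (ρ b c) = ρ b c ∧ V (ρ b c) = ρ b c := by
      have hV : V (ρ b c) = ρ b c := by rw [← hbU, h1]
      refine ⟨?_, hV⟩
      have h3 := hbV c
      rw [h2, hV] at h3
      exact h3.symm
    have hsurj : Function.Surjective g := by
      have hfr : finrank (ZMod 3) (L × L) = finrank (ZMod 3) (blk ρ b) := by
        have h1 := LinearMap.finrank_le_finrank_of_injective hg
        rw [Module.finrank_prod, hL1] at h1 ⊢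
        omega
      exact (LinearMap.injective_iff_surjective_of_finrank_eq_finrank hfr).1 hg
    obtain ⟨⟨l, m⟩, hlm⟩ := hsurj ⟨_, sub_mem_blk ρ b c⟩
    have h := congrArg Pc ((hgapp l m).symm.trans (congrArg Subtype.val hlm))
    have hneg : ∀ a, Pc (-a) = -Pc a := fun a => by simp only [Pc, map_neg, ← neg_add]
    simp only [sub_eq_add_neg, hPadd, hneg, hP1 _ l.2, hP2 _ l.2, hP2 _ m.2, hP3 _ m.2,
      hP4 _ hc1.1 hc1.2, hP4 c h1 h2, neg_zero, zero_add] at h
    exact (eq_of_sub_eq_zero (by rw [sub_eq_add_neg]; exact h.symm))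

end CfsgLib.FGStruct.CubicBlock
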