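import Mathlib

/-!
A transitive `2`-group of permutations normalized by a three-cycle, with trivial fixed quotient.
-/

set_option autoImplicit false

namespace CfsgLib.FGStruct.CubicBlock

variable {R Δ : Type*} [Group R] [Finite R] [Finite Δ]

/-- The permutation group is the four-group acting regularly. -/
theorem perm_four (hR : IsPGroup 2 R) (θ : R →* Equiv.Perm Δ) (σ : Equiv.Perm Δ) (β : R →* R)
    (hβ : ∀ r x, θ (β r) (σ x) = σ (θ r x))
    (hgen : ∀ H : Subgroup R, (∀ r, r * (β r)⁻¹ ∈ H) → H = ⊤)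
    {a : Δ} (htrans : ∀ x, ∃ r, θ r a = x) (hσ3 : σ (σ (σ a)) = a) (hne : σ a ≠ a)
    (hfix : ∀ x, x ≠ a → x ≠ σ a → x ≠ σ (σ a) → σ x = x) :
    Nat.card Δ = 4 ∧ (∀ r x, θ (r * r) x = x) ∧ (∀ r s x, θ (r * s) x = θ (s * r) x) ∧
      (∀ r x, θ r x = x → θ r = 1) := by
  classical
  set b := σ a with hb
  set c := σ b with hc
  have hcb : c ≠ b := fun h => hne (σ.injective h)
  have hca : c ≠ a := fun h => hcb (by rw [h] at hσ3; exact h.trans hσ3.symm)
  set G := θ.range with hG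
  have hG2 : IsPGroup 2 G := hR.of_surjective θ.rangeRestrict θ.rangeRestrict_surjective
  have hGtrans : ∀ x y, ∃ g ∈ G, g x = y := by
    intro x y
    obtain ⟨r, rfl⟩ := htrans x
    obtain ⟨s, rfl⟩ := htrans y
    exact ⟨θ (s * r⁻¹), ⟨_, rfl⟩, by simp [map_mul]⟩
  haveI : Nontrivial G := by
    obtain ⟨g, hg, hga⟩ := hGtrans a b
    refine ⟨⟨⟨g, hg⟩, 1, fun h => hne ?_⟩⟩
    have : g = 1 := congrArg Subtype.val h
    rw [this, Equiv.Perm.one_apply] at hga
    exact hga.symm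
  haveI : Fact (Nat.Prime 2) := ⟨Nat.prime_two⟩
  haveI := hG2.center_nontrivial
  obtain ⟨z, hz⟩ := exists_ne (1 : Subgroup.center G)
  set Z : Subgroup (Equiv.Perm Δ) := (Subgroup.center G).map G.subtype
  have hZc : ∀ w ∈ Z, ∀ g ∈ G, g * w = w * g := by
    rintro _ ⟨w, hw, rfl⟩ g hg
    exact congrArg Subtype.val (Subgroup.mem_center_iff.1 hw ⟨g, hg⟩)
  have hZ1 : ∃ w ∈ Z, w a ≠ a := by
    refine ⟨_, ⟨z, z.2, rfl⟩, fun hza => hz ?_⟩
    refine Subtype.ext (Subtype.ext (Equiv.ext fun x => ?_))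
    obtain ⟨g, hg, rfl⟩ := hGtrans a x
    have h := congrArg (fun f : Equiv.Perm Δ => f a) (hZc _ ⟨z, z.2, rfl⟩ g hg)
    simp only [Equiv.Perm.mul_apply] at h
    show ((z : G) : Equiv.Perm Δ) (g a) = g a
    exact h.symm.trans (congrArg g hza)
  have hσG : ∀ g ∈ G, σ * g * σ⁻¹ ∈ G := by
    rintro _ ⟨r, rfl⟩
    refine ⟨β r, Equiv.ext fun x => ?_⟩
    simp only [Equiv.Perm.mul_apply]
    rw [← hβ]
    simp
  have hσGmap : G.map (MulAut.conj σ).toMonoidHom = G := by
    refine Subgroup.eq_of_le_of_card_ge ?_ (le_of_eq (Subgroup.card_map_of_injective (MulAut.conj σ).injective).symm)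
    rintro _ ⟨g, hg, rfl⟩
    exact hσG g hg
  have hσZ : ∀ w ∈ Z, σ * w * σ⁻¹ ∈ Z := by
    intro w hw
    have hwG : σ * w * σ⁻¹ ∈ G := hσG w (by obtain ⟨u, -, rfl⟩ := hw; exact u.2)
    refine ⟨⟨_, hwG⟩, Subgroup.mem_center_iff.2 fun g => Subtype.ext ?_, rfl⟩
    obtain ⟨g', hg', hgg⟩ := (hσGmap.symm ▸ g.2 : (g : Equiv.Perm Δ) ∈ G.map (MulAut.conj σ).toMonoidHom)
    show (g : Equiv.Perm Δ) * (σ * w * σ⁻¹) = σ * w * σ⁻¹ * g
    rw [← hgg]
    show σ * g' * σ⁻¹ * (σ * w * σ⁻¹) = σ * w * σ⁻¹ * (σ * g' * σ⁻¹)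
    calc σ * g' * σ⁻¹ * (σ * w * σ⁻¹) = σ * (g' * w) * σ⁻¹ := by group
      _ = σ * (w * g') * σ⁻¹ := by rw [hZc w hw g' hg']
      _ = _ := by group
  -- the orbit of `a` under the centre
  let O : Δ → Set Δ := fun x => {y | ∃ w ∈ Z, w x = y}
  have hOeq : ∀ x y, y ∈ O x → O y = O x := by
    rintro x _ ⟨w, hw, rfl⟩
    ext t
    constructor
    · rintro ⟨w', hw', rfl⟩; exact ⟨w' * w, mul_mem hw' hw, rfl⟩
    · rintro ⟨w', hw', rfl⟩; exact ⟨w' * w⁻¹, mul_mem hw' (inv_mem hw), by simp⟩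
  have hOself : ∀ x, x ∈ O x := fun x => ⟨1, one_mem Z, rfl⟩
  have hOσ : ∀ x y, y ∈ O x → σ y ∈ O (σ x) := by
    rintro x _ ⟨w, hw, rfl⟩
    exact ⟨σ * w * σ⁻¹, hσZ w hw, by simp⟩
  have hOg : ∀ g ∈ G, ∀ x y, y ∈ O x → g y ∈ O (g x) := by
    rintro g hg x _ ⟨w, hw, rfl⟩
    refine ⟨w, hw, ?_⟩
    have h := congrArg (fun f : Equiv.Perm Δ => f x) (hZc w hw g hg)
    simp only [Equiv.Perm.mul_apply] at h
    exact h.symm
  have hbO : b ∈ O a := by
    obtain ⟨w, hw, hwa⟩ := hZ1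
    have hy : w a ∈ O a := ⟨w, hw, rfl⟩
    by_cases h1 : w a = b
    · exact h1 ▸ hy
    by_cases h2 : w a = c
    · -- then `σ c = a`
      have h3 := hOσ _ _ hy
      rw [h2, hσ3, ← hb] at h3
      exact hOeq _ _ h3 ▸ hOself b
    · have h3 := hOσ _ _ hy
      rw [hfix _ hwa h1 h2, ← hb] at h3
      exact (hOeq _ _ hy).symm.trans (hOeq _ _ h3) ▸ hOself b
  have hcO : c ∈ O a := by
    have h := hOσ _ _ hbO
    rw [← hc, ← hb, hOeq _ _ hbO] at h
    exact h
  -- `σ` stabilizes every orbit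
  have hσstab : ∀ x, σ x ∈ O x := by
    intro x
    by_cases h1 : x = a
    · rw [h1, ← hb]; exact hbO
    by_cases h2 : x = b
    · rw [h2, ← hc, hOeq _ _ hbO]; exact hcO
    by_cases h3 : x = c
    · rw [h3, hσ3, hOeq _ _ hcO]; exact hOself a
    · rw [hfix x h1 h2 h3]; exact hOself x
  have hall : ∀ r x, θ r x ∈ O x := by
    let H : Subgroup R :=
      { carrier := {r | ∀ x, θ r x ∈ O x}
        one_mem' := fun x => by rw [map_one]; exact hOself x
        mul_mem' := fun {r s} hr hs x => by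
          rw [map_mul, Equiv.Perm.mul_apply]
          rw [← hOeq _ _ (hs x)]
          exact hr _
        inv_mem' := fun {r} hr x => by
          have h := hr (θ r⁻¹ x)
          rw [← Equiv.Perm.mul_apply, ← map_mul, mul_inv_cancel, map_one, Equiv.Perm.one_apply] at h
          rw [hOeq _ _ h]
          exact hOself _ }
    have hH := hgen H fun r => fun x => by
      -- `θ (β r)` and `θ r` move orbits alike
      obtain ⟨t, rfl⟩ : ∃ t, θ (β r) (σ t) = x := ⟨σ.symm ((θ (β r))⁻¹ x), by simp⟩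
      rw [map_mul, Equiv.Perm.mul_apply, map_inv, Equiv.Perm.inv_eq_iff_eq.2 rfl, hβ]
      rw [hOeq _ _ (hσstab (θ r t))]
      exact hOg _ ⟨r, rfl⟩ t (σ t) (hσstab t)
    exact fun r => (hH.symm ▸ Subgroup.mem_top r : r ∈ H)
  have hZtrans : ∀ x, ∃ w ∈ Z, w a = x := by
    intro x
    obtain ⟨r, rfl⟩ := htrans x
    exact hall r a
  have hfree : ∀ g ∈ G, ∀ x, g x = x → g = 1 := by
    intro g hg x hgx
    refine Equiv.ext fun y => ?_
    obtain ⟨w1, hw1, rfl⟩ := hZtrans x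
    obtain ⟨w2, hw2, rfl⟩ := hZtrans y
    have hga : g a = a := by
      have h := congrArg (fun f : Equiv.Perm Δ => f a) (hZc w1 hw1 g hg)
      simp only [Equiv.Perm.mul_apply] at h
      exact w1.injective (h.symm.trans hgx)
    have h := congrArg (fun f : Equiv.Perm Δ => f a) (hZc w2 hw2 g hg)
    simp only [Equiv.Perm.mul_apply, hga] at h
    simpa using h
  have hGZ : ∀ g ∈ G, g ∈ Z := by
    intro g hg
    obtain ⟨w, hw, hwa⟩ := hZtrans (g a)
    have h1 : w⁻¹ * g = 1 := hfree _ (mul_mem (inv_mem (by obtain ⟨u, -, rfl⟩ := hw; exact u.2)) hg) a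
      (by rw [Equiv.Perm.mul_apply, ← hwa]; simp)
    rw [inv_mul_eq_one] at h1
    exact h1 ▸ hw
  -- count with a fixed point
  obtain ⟨n, hn⟩ := IsPGroup.iff_card.1 hG2
  let ev : G → Δ := fun g => (g : Equiv.Perm Δ) a
  have hev : Function.Bijective ev := by
    refine ⟨fun g h e => ?_, fun x => ?_⟩
    · have h1 := hfree ((g : Equiv.Perm Δ)⁻¹ * h) (mul_mem (inv_mem g.2) h.2) a (by
        rw [Equiv.Perm.mul_apply, show (h : Equiv.Perm Δ) a = (g : Equiv.Perm Δ) a from e.symm]; simp)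
      exact Subtype.ext (inv_mul_eq_one.1 h1)
    · obtain ⟨g, hg, hgx⟩ := hGtrans a x
      exact ⟨⟨g, hg⟩, hgx⟩
  have hcard : Nat.card Δ = 2 ^ n := by rw [← hn]; exact (Nat.card_congr (Equiv.ofBijective ev hev)).symm
  obtain ⟨o, hoa, hob, hoc⟩ : ∃ o, o ≠ a ∧ o ≠ b ∧ o ≠ c := by
    by_contra h
    push Not at h
    haveI : Fintype Δ := Fintype.ofFinite Δ
    have h3 : Nat.card Δ = 3 := by
      rw [Nat.card_eq_fintype_card, ← Finset.card_univ,
        show (Finset.univ : Finset Δ) = {a, b, c} from Finset.ext fun x => by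
          simp only [Finset.mem_univ, Finset.mem_insert, Finset.mem_singleton, true_iff]
          by_cases h1 : x = a
          · exact Or.inl h1
          by_cases h2 : x = b
          · exact Or.inr (Or.inl h2)
          · exact Or.inr (Or.inr (h x h1 h2))]
      rw [Finset.card_insert_of_notMem (by simp [Ne.symm hne, Ne.symm hca]),
        Finset.card_insert_of_notMem (by simp [Ne.symm hcb]), Finset.card_singleton]
    rw [h3] at hcard
    rcases n with _ | n
    · norm_num at hcard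
    · rw [pow_succ] at hcard; omega
  have hσo : σ o = o := hfix o hoa hob hoc
  -- the fixed subgroup
  let F : Subgroup G :=
    { carrier := {g | σ * g * σ⁻¹ = g}
      one_mem' := by simp
      mul_mem' := fun {g h} (hg : σ * g * σ⁻¹ = g) (hh : σ * h * σ⁻¹ = h) => by
        show σ * (g * h : Equiv.Perm Δ) * σ⁻¹ = g * h
        calc σ * (g * h : Equiv.Perm Δ) * σ⁻¹ = (σ * g * σ⁻¹) * (σ * h * σ⁻¹) := by group
          _ = _ := by rw [hg, hh]
      inv_mem' := fun {g} (hg : σ * g * σ⁻¹ = g) => by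
        show σ * (g : Equiv.Perm Δ)⁻¹ * σ⁻¹ = (g : Equiv.Perm Δ)⁻¹
        calc σ * (g : Equiv.Perm Δ)⁻¹ * σ⁻¹ = (σ * g * σ⁻¹)⁻¹ := by group
          _ = _ := by rw [hg] }
  have hFo : ∀ g : G, g ∈ F ↔ σ ((g : Equiv.Perm Δ) o) = (g : Equiv.Perm Δ) o := by
    intro g
    have e1 : σ ((g : Equiv.Perm Δ) o) = (σ * g * σ⁻¹ : Equiv.Perm Δ) o := by
      have : σ⁻¹ o = o := by rw [Equiv.Perm.inv_eq_iff_eq, hσo]
      simp only [Equiv.Perm.mul_apply, this]
    rw [e1]
    refine ⟨fun h => by rw [show σ * (g : Equiv.Perm Δ) * σ⁻¹ = g from h], fun h => ?_⟩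
    have h1 := hfree ((g : Equiv.Perm Δ)⁻¹ * (σ * g * σ⁻¹)) (mul_mem (inv_mem g.2) (hσG g g.2)) o
      (by rw [Equiv.Perm.mul_apply, h]; simp)
    exact (inv_mul_eq_one.1 h1).symm
  have hFcard : Nat.card F + 3 = Nat.card Δ := by
    have e : F ≃ {x : Δ // σ x = x} :=
      { toFun := fun g => ⟨((g : G) : Equiv.Perm Δ) o, (hFo g).1 g.2⟩
        invFun := fun x =>
          ⟨⟨(hGtrans o x).choose, (hGtrans o x).choose_spec.1⟩, (hFo _).2 (by
            rw [(hGtrans o x).choose_spec.2]; exact x.2)⟩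
        left_inv := fun g => by
          refine Subtype.ext (Subtype.ext ?_)
          have h1 := (hGtrans o (((g : G) : Equiv.Perm Δ) o)).choose_spec
          have h2 := hfree _ (mul_mem (inv_mem h1.1) (g : G).2) o (by rw [Equiv.Perm.mul_apply, Equiv.Perm.inv_eq_iff_eq]; exact h1.2.symm)
          exact inv_mul_eq_one.1 h2
        right_inv := fun x => Subtype.ext (hGtrans o x).choose_spec.2 }
    haveI : Fintype Δ := Fintype.ofFinite Δ
    rw [Nat.card_congr e, Nat.card_eq_fintype_card, Nat.card_eq_fintype_card, Fintype.card_subtype]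
    have hmoved : (Finset.univ.filter fun x : Δ => σ x = x) = Finset.univ \ {a, b, c} := by
      ext x
      simp only [Finset.mem_filter, Finset.mem_univ, true_and, Finset.mem_sdiff, Finset.mem_insert,
        Finset.mem_singleton, not_or]
      constructor
      · intro hx
        refine ⟨?_, ?_, ?_⟩ <;> rintro rfl
        · exact hne hx
        · exact hcb hx
        · exact hca (hx.symm.trans hσ3)
      · rintro ⟨h1, h2, h3⟩
        exact hfix x h1 h2 h3
    have hc3 : ({a, b, c} : Finset Δ).card = 3 := by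
      rw [Finset.card_insert_of_notMem (by simp [Ne.symm hne, Ne.symm hca]),
        Finset.card_insert_of_notMem (by simp [Ne.symm hcb]), Finset.card_singleton]
    rw [hmoved, Finset.card_sdiff_of_subset (Finset.subset_univ _), hc3, Finset.card_univ]
    have := Finset.card_le_univ ({a, b, c} : Finset Δ)
    omega
  obtain ⟨j, hjn, hj⟩ := (Nat.dvd_prime_pow Nat.prime_two).1 (hn ▸ Subgroup.card_subgroup_dvd_card F)
  rw [hcard, hj] at hFcard
  have hj0 : j = 0 := by
    by_contra hj0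
    have h1 : 2 ∣ 2 ^ j := dvd_pow_self 2 hj0
    have h2 : 2 ∣ 2 ^ n := dvd_pow_self 2 (by omega)
    omega
  subst hj0
  have hn2 : n = 2 := by
    have h4 : 2 ^ n = 2 ^ 2 := by norm_num at hFcard ⊢; omega
    exact Nat.pow_right_injective le_rfl h4
  subst hn2
  have h4 : Nat.card Δ = 4 := by rw [hcard]; norm_num
  refine ⟨h4, fun r x => ?_, fun r s x => ?_, fun r x h => hfree _ ⟨r, rfl⟩ x h⟩
  · -- exponent two
    by_contra hx
    have hg1 : θ r * θ r ≠ 1 := fun h => hx (by rw [map_mul, h, Equiv.Perm.one_apply])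
    have hFbot : F = ⊥ := Subgroup.card_eq_one.1 (by rw [hj, pow_zero])
    set g : G := ⟨θ r, r, rfl⟩
    have hg4 : orderOf g = 4 := by
      have h1 : orderOf g ∣ 2 ^ 2 := hn ▸ orderOf_dvd_natCard g
      obtain ⟨i, hi, he⟩ := (Nat.dvd_prime_pow Nat.prime_two).1 h1
      interval_cases i
      · rw [pow_zero, orderOf_eq_one_iff] at he
        exact absurd (congrArg Subtype.val (show g * g = 1 by rw [he, mul_one])) hg1
      · rw [pow_one] at he
        have h2 := pow_orderOf_eq_one g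
        rw [he, pow_two] at h2
        exact absurd (congrArg Subtype.val h2) hg1
      · simpa using he
    have hcyc : Subgroup.zpowers g = ⊤ :=
      Subgroup.eq_top_of_card_eq _ (by rw [Nat.card_zpowers, hg4, hn]; norm_num)
    obtain ⟨i, hi⟩ := (hcyc.symm ▸ Subgroup.mem_top _ : (⟨σ * θ r * σ⁻¹, hσG _ ⟨r, rfl⟩⟩ : G) ∈ Subgroup.zpowers g)
    have hσg : σ * θ r * σ⁻¹ = θ r ^ i := (congrArg Subtype.val hi).symm.trans (by simp [g])
    have hg2F : g * g ∈ F := by
      show σ * (θ r * θ r) * σ⁻¹ = θ r * θ r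
      have hodd : Odd i := by
        by_contra hev
        rw [Int.not_odd_iff_even] at hev
        obtain ⟨k, rfl⟩ := hev
        have h1 : orderOf g ∣ 2 := by
          have h2 : (⟨σ * θ r * σ⁻¹, hσG _ ⟨r, rfl⟩⟩ : G) ^ 2 = 1 := by
            rw [← hi]
            show (g ^ (k + k)) ^ 2 = 1
            rw [← zpow_natCast, ← zpow_mul, show (k + k) * ((2 : ℕ) : ℤ) = ((4 : ℕ) : ℤ) * k by push_cast; ring,
              zpow_mul, zpow_natCast, ← hg4, pow_orderOf_eq_one, one_zpow]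
          have h3 : (σ * θ r * σ⁻¹) ^ 2 = 1 := congrArg Subtype.val h2
          rw [conj_pow, conj_eq_one_iff] at h3
          exact orderOf_dvd_of_pow_eq_one (Subtype.ext h3)
        rw [hg4] at h1
        norm_num at h1
      obtain ⟨k, rfl⟩ := hodd
      have h4' : θ r ^ 4 = 1 := by
        have := congrArg Subtype.val (pow_orderOf_eq_one g)
        rw [hg4] at this
        exact this
      calc σ * (θ r * θ r) * σ⁻¹ = (σ * θ r * σ⁻¹) * (σ * θ r * σ⁻¹) := by group
        _ = θ r ^ (((4 : ℕ) : ℤ) * k + 2) := by rw [hσg, ← zpow_add]; congr 1; push_cast; ring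
        _ = θ r * θ r := by
          rw [zpow_add, zpow_mul, zpow_natCast, h4', one_zpow, one_mul]
          exact (zpow_natCast (θ r) 2).trans (pow_two _)
    rw [hFbot, Subgroup.mem_bot] at hg2F
    exact hg1 (congrArg Subtype.val hg2F)
  · rw [map_mul, map_mul, hZc _ (hGZ _ ⟨s, rfl⟩) _ ⟨r, rfl⟩]

end CfsgLib.FGStruct.CubicBlock
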