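import Mathlib
import Cfsg.Prelude
import Cfsg.Agent.Lib.FGStruct.CubicBlock.Basic
import Cfsg.Agent.Lib.Solvable.CoprimeAction
import Cfsg.Agent.Lib.PLocal.HallHigman
import Cfsg.Agent.Lib.PLocal.PSolvable
import Cfsg.Agent.Lib.Transfer.ThompsonFactor

/-!
Invariant subgroups of odd prime power order are centralized by an element with one cubic block.
-/

set_option autoImplicit false
set_option linter.style.haveILetI false

open Module
open scoped commutatorElement

namespace CfsgLib.FGStruct.CubicBlock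

variable {S : Type*} [Group S] [Finite S] {E : Type*} [AddCommGroup E] [Module (ZMod 3) E] [Finite E]

/-- The standing hypotheses. -/
structure Setting (ρ : Representation (ZMod 3) S E) (O : Subgroup S) (b u : S) (e : E) : Prop where
  inj : Function.Injective ρ
  nml : O.Normal
  cop : (Nat.card O).Coprime 3
  cube : b ^ 3 = 1
  blk_le : finrank (ZMod 3) (blk ρ b) ≤ 2
  blk_eq : 2 ≤ finrank (ZMod 3) (blk ρ b)
  four : Four b u
  memO : u ∈ O
  lines : Lines ρ b u e

variable {ρ : Representation (ZMod 3) S E} {O : Subgroup S} {b u : S} {e : E}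

/-- The space of the four-group. -/
def wsp (ρ : Representation (ZMod 3) S E) (b : S) (e : E) : Submodule (ZMod 3) E :=
  Submodule.span (ZMod 3) {e, ρ b e, ρ b (ρ b e)}

omit [Finite S] [Finite E] in
theorem finrank_wsp : finrank (ZMod 3) (wsp ρ b e) ≤ 3 := by
  classical
  refine le_trans (finrank_span_le_card _) ?_
  rw [Set.toFinset_card, ← Nat.card_eq_fintype_card, Nat.card_coe_set_eq]
  exact le_trans (Set.ncard_insert_le _ _) (Nat.succ_le_succ (le_trans (Set.ncard_insert_le _ _) (by simp)))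

omit [Finite S] [Finite E] in
theorem mem_wsp (α β γ : ZMod 3) : α • e + β • ρ b e + γ • ρ b (ρ b e) ∈ wsp ρ b e :=
  add_mem (add_mem (Submodule.smul_mem _ _ (Submodule.subset_span (by simp)))
    (Submodule.smul_mem _ _ (Submodule.subset_span (by simp))))
    (Submodule.smul_mem _ _ (Submodule.subset_span (by simp)))

omit [Finite E] in
theorem Setting.b_three (h : Setting ρ O b u e) (x : E) : ρ b (ρ b (ρ b x)) = x := by
  rw [← apply_mul, ← apply_mul, show b * b * b = b ^ 3 by rw [pow_three'], h.cube, map_one, Module.End.one_apply]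

omit [Finite E] in
theorem Setting.blk_le_wsp (h : Setting ρ O b u e) : blk ρ b ≤ wsp ρ b e := by
  rintro _ ⟨x, rfl⟩
  obtain ⟨α, β, γ, c, rfl, hc1, hc2⟩ := h.lines.decomp x
  simp only [LinearMap.sub_apply, Module.End.one_apply, map_add, map_smul, h.lines.fixed c hc1 hc2, h.b_three]
  have : α • ρ b e + β • ρ b (ρ b e) + γ • e + c - (α • e + β • ρ b e + γ • ρ b (ρ b e) + c) =
      (γ - α) • e + (α - β) • ρ b e + (β - γ) • ρ b (ρ b e) := by
    simp only [sub_smul]; abel
  first
  | (rw [this]; exact mem_wsp _ _ _)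
  | (rw [sub_self, add_zero]
     exact add_mem (add_mem
       (Submodule.smul_mem _ _ (sub_mem (Submodule.subset_span (by simp)) (Submodule.subset_span (by simp))))
       (Submodule.smul_mem _ _ (sub_mem (Submodule.subset_span (by simp)) (Submodule.subset_span (by simp)))))
       (Submodule.smul_mem _ _ (sub_mem (Submodule.subset_span (by simp)) (Submodule.subset_span (by simp)))))

omit [Finite E] in
theorem Setting.four_apply (h : Setting ρ O b u e) :
    ρ u (ρ b e) = -ρ b e ∧ ρ u (ρ b (ρ b e)) = -ρ b (ρ b e) ∧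
      ρ (b * u * b⁻¹) (ρ b e) = ρ b e ∧ ρ (b * u * b⁻¹) (ρ b (ρ b e)) = -ρ b (ρ b e) := by
  set v := b * u * b⁻¹ with hv
  have h1 : ρ v (ρ b e) = ρ b e := by
    rw [← apply_mul, hv, inv_mul_cancel_right, apply_mul, h.lines.fix]
  have h2 : ρ u (ρ b e) = -ρ b e := by
    have h3 : ρ (u * v) (ρ b e) = -ρ b e := by
      rw [← h.four.rot, ← apply_mul, inv_mul_cancel_right, apply_mul, h.lines.neg, map_neg]
    rwa [apply_mul, h1] at h3
  have h4 : ρ v (ρ b (ρ b e)) = -ρ b (ρ b e) := by
    rw [← apply_mul, hv, inv_mul_cancel_right, apply_mul, h2, map_neg]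
  refine ⟨h2, ?_, h1, h4⟩
  have h5 : ρ (u * v) (ρ b (ρ b e)) = ρ b (ρ b e) := by
    rw [← h.four.rot, ← apply_mul, inv_mul_cancel_right, apply_mul, h1]
  rw [apply_mul, h4, map_neg] at h5
  exact neg_eq_iff_eq_neg.1 h5

omit [Finite E] in
theorem Setting.four_moves (h : Setting ρ O b u e) :
    u ∈ movesIn ρ (wsp ρ b e) ∧ b * u * b⁻¹ ∈ movesIn ρ (wsp ρ b e) := by
  obtain ⟨h1, h2, h3, h4⟩ := h.four_apply
  constructor
  · intro x
    obtain ⟨α, β, γ, c, rfl, hc1, hc2⟩ := h.lines.decomp x
    simp only [map_add, map_smul, h.lines.fix, h1, h2, hc1, smul_neg]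
    have : α • e + -(β • ρ b e) + -(γ • ρ b (ρ b e)) + c - (α • e + β • ρ b e + γ • ρ b (ρ b e) + c) =
        (0 : ZMod 3) • e + (-(β + β)) • ρ b e + (-(γ + γ)) • ρ b (ρ b e) := by
      simp only [zero_smul, neg_smul, add_smul]; abel
    rw [this]
    exact mem_wsp _ _ _
  · intro x
    obtain ⟨α, β, γ, c, rfl, hc1, hc2⟩ := h.lines.decomp x
    simp only [map_add, map_smul, h.lines.neg, h3, h4, hc2, smul_neg]
    have : -(α • e) + β • ρ b e + -(γ • ρ b (ρ b e)) + c - (α • e + β • ρ b e + γ • ρ b (ρ b e) + c) =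
        (-(α + α)) • e + (0 : ZMod 3) • ρ b e + (-(γ + γ)) • ρ b (ρ b e) := by
      simp only [zero_smul, neg_smul, add_smul]; abel
    rw [this]
    exact mem_wsp _ _ _

omit [Finite E] in
/-- A small `r`-group normalized by an element of order thirteen is centralized. -/
theorem centralized_of_small {G : Type*} [Group G] [Finite G] {a : G} (ha : orderOf a = 13) {r : ℕ}
    [hr : Fact r.Prime] {T : Subgroup G} (hT : IsPGroup r T)
    (haT : Subgroup.zpowers a ≤ Subgroup.normalizer (T : Set G)) (hr13 : r ≠ 13)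
    (hd : Nat.card T ∣ 2 ^ 10 * 5 * 11 ^ 2 * 13) : ∀ t ∈ T, t * a = a * t := by
  classical
  haveI : Fact (Nat.Prime 13) := ⟨by norm_num⟩
  obtain ⟨i, hi⟩ := IsPGroup.iff_card.1 hT
  let A := Subgroup.zpowers a
  have hA : IsPGroup 13 A := IsPGroup.of_card (n := 1) (by rw [Nat.card_zpowers, ha, pow_one])
  letI : MulAction A T := MulAction.compHom T (T.normalizerMonoidHom.comp (Subgroup.inclusion haT))
  have hsmul : ∀ (g : A) (t : T), ((g • t : T) : G) = (g : G) * t * (g : G)⁻¹ := fun g t => rfl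
  have hmod := hA.card_modEq_card_fixedPoints T
  set FT := (Subgroup.centralizer ({a} : Set G)).subgroupOf T with hFT
  have hfix : MulAction.fixedPoints A T = (FT : Set T) := by
    ext t
    simp only [MulAction.mem_fixedPoints, SetLike.mem_coe, hFT, Subgroup.mem_subgroupOf,
      Subgroup.mem_centralizer_singleton_iff]
    constructor
    · intro h
      have h' := congrArg Subtype.val (h ⟨a, Subgroup.mem_zpowers a⟩)
      rw [hsmul] at h'
      exact (mul_inv_eq_iff_eq_mul.1 h').symm
    · rintro h ⟨g, n, rfl⟩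
      refine Subtype.ext ?_
      rw [hsmul]
      exact mul_inv_eq_iff_eq_mul.2 ((show Commute a (t : G) from h.symm).zpow_left n).eq
  rw [show Nat.card (MulAction.fixedPoints A T) = Nat.card FT from Nat.card_congr (Equiv.setCongr hfix)] at hmod
  obtain ⟨l, hl, hlc⟩ := (Nat.dvd_prime_pow hr.out).1 (hi ▸ Subgroup.card_subgroup_dvd_card FT)
  rw [hi, hlc] at hmod
  rw [hi] at hd
  have hli : l = i := by
    by_contra hne
    have hi0 : i ≠ 0 := by omega
    have hr' : r ∣ 2 ^ 10 * 5 * 11 ^ 2 * 13 := (dvd_pow_self r hi0).trans hd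
    have hcases : r = 2 ∨ r = 5 ∨ r = 11 := by
      rcases hr.out.dvd_mul.1 hr' with h | h
      · rcases hr.out.dvd_mul.1 h with h | h
        · rcases hr.out.dvd_mul.1 h with h | h
          · exact Or.inl ((Nat.prime_dvd_prime_iff_eq hr.out Nat.prime_two).1 (hr.out.dvd_of_dvd_pow h))
          · exact Or.inr (Or.inl ((Nat.prime_dvd_prime_iff_eq hr.out (by norm_num)).1 h))
        · exact Or.inr (Or.inr ((Nat.prime_dvd_prime_iff_eq hr.out (by norm_num)).1 (hr.out.dvd_of_dvd_pow h)))
      · exact absurd ((Nat.prime_dvd_prime_iff_eq hr.out (by norm_num)).1 h) hr13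
    have hi11 : i ≤ 10 := by
      by_contra hlt
      have := (pow_dvd_pow r (show 11 ≤ i by omega)).trans hd
      rcases hcases with rfl | rfl | rfl <;> norm_num at this
    rcases hcases with rfl | rfl | rfl
    · interval_cases i <;> interval_cases l <;> simp_all [Nat.ModEq]
    · have : i ≤ 1 := by
        by_contra hlt
        have := (pow_dvd_pow 5 (show 2 ≤ i by omega)).trans hd
        norm_num at this
      interval_cases i <;> interval_cases l <;> simp_all [Nat.ModEq]
    · have : i ≤ 2 := by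
        by_contra hlt
        have := (pow_dvd_pow 11 (show 3 ≤ i by omega)).trans hd
        norm_num at this
      interval_cases i <;> interval_cases l <;> simp_all [Nat.ModEq]
  have htop : FT = ⊤ := Subgroup.eq_top_of_card_eq _ (by rw [hlc, hli, hi])
  intro t ht
  exact Subgroup.mem_centralizer_singleton_iff.1
    (Subgroup.mem_subgroupOf.1 (htop.symm ▸ Subgroup.mem_top (⟨t, ht⟩ : T)))

/-- The element of order thirteen commutes with the four-group. -/
theorem Setting.commute_thirteen [Group.IsSolvable S] (h : Setting ρ O b u e) {a : S} (ha : a ∈ O)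
    (ha13 : orderOf a = 13) {U : Submodule (ZMod 3) E} (hU : finrank (ZMod 3) U ≤ 4) (hbU : blk ρ b ≤ U)
    (haU : a ∈ movesIn ρ U) {m : ℕ} (hm : b * a * b⁻¹ = a ^ m) : a * u = u * a := by
  classical
  haveI : Fact (Nat.Prime 13) := ⟨by norm_num⟩
  set v := b * u * b⁻¹ with hv
  set V := wsp ρ b e ⊔ U with hV
  have hV5 : finrank (ZMod 3) V ≤ 5 := by
    have h1 := Submodule.finrank_sup_add_finrank_inf_eq (wsp ρ b e) U
    have h2 : 2 ≤ finrank (ZMod 3) (wsp ρ b e ⊓ U : Submodule (ZMod 3) E) :=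
      h.blk_eq.trans (Submodule.finrank_mono (le_inf h.blk_le_wsp hbU))
    have h3 := finrank_wsp (ρ := ρ) (b := b) (e := e)
    rw [← hV] at h1
    omega
  set K := Subgroup.closure ({u, v, a} : Set S) with hK
  have hvO : v ∈ O := h.nml.conj_mem u h.memO b
  have hKO : K ≤ O := (Subgroup.closure_le _).2 (by
    intro x hx
    rcases hx with hx | hx | hx <;> rw [hx]
    exacts [h.memO, hvO, ha])
  have hKmv : K ≤ movesIn ρ V := (Subgroup.closure_le _).2 (by
    rintro _ (rfl | rfl | rfl)
    · exact movesIn_mono ρ le_sup_left h.four_moves.1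
    · exact movesIn_mono ρ le_sup_left h.four_moves.2
    · exact movesIn_mono ρ le_sup_right haU)
  have hKd : Nat.card K ∣ 2 ^ 10 * 5 * 11 ^ 2 * 13 :=
    dvd_of_finrank_le_five ρ h.inj hV5 (h.cop.coprime_dvd_left (Subgroup.card_dvd_of_le hKO)) hKmv
  set a' : K := ⟨a, Subgroup.subset_closure (by simp)⟩
  set u' : K := ⟨u, Subgroup.subset_closure (by simp)⟩
  set v' : K := ⟨v, Subgroup.subset_closure (by simp)⟩
  have ha' : orderOf a' = 13 := by rw [← Subgroup.orderOf_coe]; exact ha13
  -- the automorphism induced by `b`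
  have hbK : ∀ k ∈ K, b * k * b⁻¹ ∈ K := fun k hk => by
    have hle : K ≤ K.comap (MulAut.conj b).toMonoidHom := (Subgroup.closure_le _).2 (by
      rintro _ (rfl | rfl | rfl)
      · exact Subgroup.subset_closure (by simp [hv])
      · show b * v * b⁻¹ ∈ K
        rw [hv, h.four.rot]
        exact mul_mem u'.2 v'.2
      · show b * _ * b⁻¹ ∈ K
        rw [hm]
        exact pow_mem a'.2 m)
    exact hle hk
  let β : K →* K := ((MulAut.conj b).toMonoidHom.comp K.subtype).codRestrict K fun k => hbK k k.2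
  have hβ : Function.Bijective β := Finite.injective_iff_bijective.1 fun x y hxy =>
    Subtype.ext ((MulAut.conj b).injective (congrArg Subtype.val hxy))
  let βe : K ≃* K := MulEquiv.ofBijective β hβ
  set N := Cfsg.pPrimeCore 13 K with hN
  haveI hNn : N.Normal := CfsgLib.Solvable.pPrimeCore_normal 13 K
  haveI hNc : N.Characteristic := CfsgLib.Solvable.pPrimeCore_characteristic 13 K
  have hNcop : (Nat.card N).Coprime 13 := CfsgLib.Solvable.pPrimeCore_card_coprime 13 K
  haveI : Group.IsSolvable N := inferInstance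
  -- `a` centralizes `N`
  have haN : N ≤ Subgroup.centralizer ({a'} : Set K) := by
    have hcopA : (Nat.card (Subgroup.zpowers a')).Coprime (Nat.card N) := by
      rw [Nat.card_zpowers, ha']; exact hNcop.symm
    rw [← Subgroup.subgroupOf_eq_top, ← Subgroup.index_eq_one]
    by_contra hne
    obtain ⟨r, hr, hrd⟩ := Nat.exists_prime_and_dvd hne
    haveI := Fact.mk hr
    have hrN : r ∣ Nat.card N := hrd.trans (Subgroup.index_dvd_card _)
    have hr13 : r ≠ 13 := by
      rintro rfl
      exact (Nat.Prime.coprime_iff_not_dvd hr).1 hNcop.symm hrN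
    obtain ⟨T, hT⟩ := CfsgLib.Solvable.exists_invariant_sylow (A := Subgroup.zpowers a') (K := N)
      Subgroup.le_normalizer_of_normal hcopA (Or.inr inferInstance) r
    have hall := centralized_of_small ha' (T.isPGroup'.map N.subtype) hT hr13
      (((Subgroup.card_dvd_of_le (Subgroup.map_subtype_le _)).trans (Subgroup.card_subgroup_dvd_card N)).trans hKd)
    have hle : (T : Subgroup N) ≤ (Subgroup.centralizer ({a'} : Set K)).subgroupOf N := fun s hs =>
      Subgroup.mem_centralizer_singleton_iff.2 (hall _ ⟨s, hs, rfl⟩)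
    exact T.not_dvd_index (hrd.trans (Subgroup.index_dvd_of_le hle))
  let π := QuotientGroup.mk' N
  have hps : Cfsg.IsPSolvable 13 (K ⧸ N) :=
    CfsgLib.ThompsonFactor.isPSolvable_of_isSolvable inferInstance
  have hCP := CfsgLib.PLoc.centralizer_pCore_le_self hps (CfsgLib.Solvable.pPrimeCore_quotient_eq_bot N hN)
  set P := Cfsg.pCore 13 (K ⧸ N)
  haveI : P.Normal := CfsgLib.Solvable.pCore_normal 13 _
  have hπa : orderOf (π a') = 13 := by
    refine ((Nat.dvd_prime (by norm_num)).1 (ha' ▸ orderOf_map_dvd π a')).resolve_left fun h1 => ?_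
    have h2 : a' ∈ N := (QuotientGroup.eq_one_iff a').1 (orderOf_eq_one_iff.1 h1)
    have h3 := Subgroup.orderOf_dvd_natCard N h2
    rw [ha'] at h3
    exact (Nat.Prime.coprime_iff_not_dvd (by norm_num)).1 hNcop.symm h3
  have hQd : Nat.card (K ⧸ N) ∣ 2 ^ 10 * 5 * 11 ^ 2 * 13 := (Subgroup.card_quotient_dvd_card N).trans hKd
  have h13 : ∀ R : Subgroup (K ⧸ N), IsPGroup 13 R → Nat.card R ≤ 13 := by
    intro R hR
    obtain ⟨i, hi⟩ := IsPGroup.iff_card.1 hR
    have h2 : 13 ^ i ∣ 2 ^ 10 * 5 * 11 ^ 2 * 13 := hi ▸ (Subgroup.card_subgroup_dvd_card R).trans hQd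
    rw [hi]
    by_contra hlt
    have h3 : 2 ≤ i := by
      by_contra hh
      interval_cases i <;> norm_num at hlt
    have := (pow_dvd_pow 13 h3).trans h2
    norm_num at this
  have hPa : Subgroup.zpowers (π a') = P := by
    have hAp : IsPGroup 13 (Subgroup.zpowers (π a')) :=
      IsPGroup.of_card (n := 1) (by rw [Nat.card_zpowers, hπa, pow_one])
    have hsup : IsPGroup 13 (P ⊔ Subgroup.zpowers (π a') : Subgroup (K ⧸ N)) :=
      IsPGroup.to_sup_of_normal_left (CfsgLib.Solvable.pCore_isPGroup 13 _) hAp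
    have h1 : Subgroup.zpowers (π a') = P ⊔ Subgroup.zpowers (π a') :=
      Subgroup.eq_of_le_of_card_ge le_sup_right ((h13 _ hsup).trans (by rw [Nat.card_zpowers, hπa]))
    have h2 : P ≤ Subgroup.zpowers (π a') := h1 ▸ le_sup_left
    refine (Subgroup.eq_of_le_of_card_ge h2 ?_).symm
    obtain ⟨i, hi⟩ := IsPGroup.iff_card.1 (CfsgLib.Solvable.pCore_isPGroup 13 (K ⧸ N))
    rw [Nat.card_zpowers, hπa, hi]
    refine le_trans (le_of_eq (pow_one 13).symm) (Nat.pow_le_pow_right (by norm_num) (Nat.one_le_iff_ne_zero.2 fun h0 => ?_))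
    have hbot : P = ⊥ := Subgroup.card_eq_one.1 (by rw [hi, h0, pow_zero])
    have h4 : π a' ∈ P := hCP (by rw [hbot]; simp [Subgroup.mem_centralizer_iff])
    rw [hbot, Subgroup.mem_bot] at h4
    rw [h4, orderOf_one] at hπa
    norm_num at hπa
  -- conjugation on `⟨ā⟩`
  obtain ⟨i, hi⟩ : π u' * π a' * (π u')⁻¹ ∈ Subgroup.zpowers (π a') := by
    rw [hPa]
    exact (inferInstance : P.Normal).conj_mem _ (hPa ▸ Subgroup.mem_zpowers _) _
  change π a' ^ i = _ at hi
  let βq : K ⧸ N →* K ⧸ N := QuotientGroup.map N N βe.toMonoidHom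
    (Subgroup.characteristic_iff_le_comap.1 hNc βe)
  have hβu : βq (π u') = π v' := rfl
  have hβa : βq (π a') = π a' ^ m := by
    rw [← map_pow]
    exact congrArg π (Subtype.ext hm)
  have hvi : π v' * π a' ^ m * (π v')⁻¹ = (π a' ^ m) ^ i := by
    have h1 := congrArg βq hi
    rw [map_zpow, map_mul, map_mul, map_inv, hβa, hβu] at h1
    exact h1.symm
  have hm0 : ¬ (13 : ℤ) ∣ m := by
    intro hd
    have h1 : a ^ m = 1 := orderOf_dvd_iff_pow_eq_one.1 (ha13 ▸ Int.natCast_dvd_natCast.1 hd)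
    rw [h1, conj_eq_one_iff] at hm
    rw [hm, orderOf_one] at ha13
    norm_num at ha13
  obtain ⟨s, t, hst⟩ := (Prime.coprime_iff_not_dvd (Nat.prime_iff_prime_int.1 (by norm_num : Nat.Prime 13))).2 hm0
  push_cast at hst
  have hmt : (π a' ^ m) ^ t = π a' := by
    rw [← zpow_natCast, ← zpow_mul, show (m : ℤ) * t = 1 + (13 : ℕ) * (-s) by push_cast; linarith,
      zpow_add, zpow_one, zpow_mul, zpow_natCast, ← hπa, pow_orderOf_eq_one, one_zpow, mul_one]
  have hvi' : π v' * π a' * (π v')⁻¹ = π a' ^ i := by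
    nth_rw 1 [← hmt]
    rw [← conj_zpow, hvi, ← zpow_mul, mul_comm i t, zpow_mul, hmt]
  have hw : π (u' * v') * π a' = π a' * π (u' * v') := by
    have hsq : π u' * π u' = 1 := by
      rw [← map_mul, show u' * u' = 1 from Subtype.ext h.four.sq, map_one]
    have hcv : π u' * π v' = π v' * π u' := by
      rw [← map_mul, ← map_mul, show u' * v' = v' * u' from Subtype.ext h.four.comm]
    have h1 : π v' * π a' * (π v')⁻¹ = π u' * π a' * (π u')⁻¹ := hvi'.trans hi
    have hinv : (π u')⁻¹ = π u' := inv_eq_of_mul_eq_one_left hsq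
    rw [map_mul]
    calc π u' * π v' * π a' = π u' * (π v' * π a' * (π v')⁻¹) * π v' := by group
      _ = (π u' * π u') * π a' * ((π u')⁻¹ * π v') := by rw [h1]; group
      _ = π a' * (π u' * π v') := by rw [hsq, one_mul, hinv]
  -- lift: `a` commutes with `u v`
  have hw' : a * (u * v) = u * v * a := by
    set n : K := a' * (u' * v') * a'⁻¹ * (u' * v')⁻¹ with hn'
    have hnN : n ∈ N := by
      rw [← QuotientGroup.eq_one_iff]
      show π n = 1
      rw [hn', map_mul, map_mul, map_mul, map_inv, map_inv, ← hw, mul_inv_cancel_right, mul_inv_cancel]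
    have hcn : a' * n = n * a' := (Subgroup.mem_centralizer_singleton_iff.1 (haN hnN)).symm
    have hpow : ∀ k : ℕ, a' ^ k * (u' * v') * (a' ^ k)⁻¹ = n ^ k * (u' * v') := by
      intro k
      induction k with
      | zero => simp
      | succ k ih =>
        calc a' ^ (k + 1) * (u' * v') * (a' ^ (k + 1))⁻¹ = a' * (a' ^ k * (u' * v') * (a' ^ k)⁻¹) * a'⁻¹ := by
              rw [pow_succ']; group
          _ = a' * n ^ k * (u' * v') * a'⁻¹ := by rw [ih]; group
          _ = n ^ k * (a' * (u' * v') * a'⁻¹) := by rw [((show Commute a' n from hcn).pow_right k).eq]; group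
          _ = n ^ (k + 1) * (u' * v') := by rw [hn', pow_succ]; group
    have h1 := hpow 13
    rw [← ha', pow_orderOf_eq_one, one_mul, inv_one, mul_one, ha', right_eq_mul] at h1
    have h2 : n = 1 := orderOf_eq_one_iff.1 (Nat.eq_one_of_dvd_coprimes hNcop
      (Subgroup.orderOf_dvd_natCard N hnN) (orderOf_dvd_of_pow_eq_one h1))
    rw [hn', mul_inv_eq_one, mul_inv_eq_iff_eq_mul] at h2
    exact congrArg Subtype.val h2
  -- apply `b`
  have h2 : a ^ m * u = u * a ^ m := by
    have h1 := congrArg (fun g => b * g * b⁻¹) hw'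
    have e1 : b * (u * v) * b⁻¹ = u := by
      calc b * (u * v) * b⁻¹ = (b * u * b⁻¹) * (b * v * b⁻¹) := by group
        _ = v * (u * v) := by rw [hv, h.four.rot]
        _ = (v * u) * v := (mul_assoc _ _ _).symm
        _ = u * (v * v) := by rw [hv, ← h.four.comm, mul_assoc]
        _ = u := by rw [hv, show b * u * b⁻¹ * (b * u * b⁻¹) = b * (u * u) * b⁻¹ by group, h.four.sq, mul_one,
            mul_inv_cancel, mul_one]
    calc a ^ m * u = (b * a * b⁻¹) * (b * (u * v) * b⁻¹) := by rw [hm, e1]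
      _ = b * (a * (u * v)) * b⁻¹ := by group
      _ = b * (u * v * a) * b⁻¹ := h1
      _ = (b * (u * v) * b⁻¹) * (b * a * b⁻¹) := by group
      _ = u * a ^ m := by rw [hm, e1]
  have h3 : a = (a ^ m) ^ t := by
    rw [← zpow_natCast, ← zpow_mul, show (m : ℤ) * t = 1 + (13 : ℕ) * (-s) by push_cast; linarith,
      zpow_add, zpow_one, zpow_mul, zpow_natCast, ← ha13, pow_orderOf_eq_one, one_zpow, mul_one]
  rw [h3]
  exact ((show Commute (a ^ m) u from h2).zpow_left t).eq

/-- Invariant subgroups of odd prime power order inside `O` are centralized by `b`. -/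
theorem Setting.commute_of_invariant [Group.IsSolvable S] (h : Setting ρ O b u e) {q : ℕ} [hq : Fact q.Prime]
    (hq2 : q ≠ 2) {Y : Subgroup S} (hYO : Y ≤ O) (hY : IsPGroup q Y) (hbY : b ∈ Subgroup.normalizer (Y : Set S)) :
    ∀ y ∈ Y, b * y = y * b := by
  classical
  intro y hy
  by_contra hne
  set y₁ := y * b * y⁻¹ with hy₁
  set U := blk ρ b ⊔ (blk ρ b).map (ρ y) with hU
  have hU4 : finrank (ZMod 3) U ≤ 4 := by
    have h1 := Submodule.finrank_sup_add_finrank_inf_eq (blk ρ b) ((blk ρ b).map (ρ y))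
    have h2 := Submodule.finrank_map_le (ρ y) (blk ρ b)
    have h3 := h.blk_le
    rw [← hU] at h1
    omega
  set K := Subgroup.closure ({b, y₁} : Set S) ⊓ Y with hKdef
  have hKmv : K ≤ movesIn ρ U := inf_le_left.trans ((Subgroup.closure_le _).2 (by
    intro x hx
    rcases hx with hx | hx <;> rw [hx]
    · exact movesIn_mono ρ le_sup_left (mem_movesIn_blk ρ b)
    · exact movesIn_mono ρ le_sup_right (conj_mem_movesIn ρ y b)))
  have hKO : K ≤ O := inf_le_right.trans hYO
  have hKq : IsPGroup q K := hY.to_le inf_le_right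
  have hd := dvd_of_finrank_le_four ρ h.inj hU4 (h.cop.coprime_dvd_left (Subgroup.card_dvd_of_le hKO)) hKmv
  set c := y₁ * b⁻¹ with hc
  have hcK : c ∈ K := by
    refine Subgroup.mem_inf.2 ⟨mul_mem (Subgroup.subset_closure (by simp)) (inv_mem (Subgroup.subset_closure (by simp))), ?_⟩
    rw [hc, hy₁, show y * b * y⁻¹ * b⁻¹ = y * (b * y⁻¹ * b⁻¹) by group]
    exact mul_mem hy ((Subgroup.mem_normalizer_iff.1 hbY _).1 (inv_mem hy))
  have hbK : b ∈ Subgroup.normalizer (K : Set S) :=
    Subgroup.inf_normalizer_le_normalizer_inf ⟨Subgroup.le_normalizer (Subgroup.subset_closure (by simp)), hbY⟩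
  have hncb : b * c ≠ c * b := by
    intro hcb
    obtain ⟨k, hk⟩ := hKq ⟨c, hcK⟩
    have hk' : c ^ q ^ k = 1 := congrArg Subtype.val hk
    have h1 : y₁ = c * b := by rw [hc, inv_mul_cancel_right]
    have h2 : c ^ 3 = 1 := by
      have h3 : y₁ ^ 3 = 1 := by rw [hy₁, conj_pow, h.cube, mul_one, mul_inv_cancel]
      rw [h1, (show Commute c b from hcb.symm).mul_pow, h.cube, mul_one] at h3
      exact h3
    have hq3 : q ≠ 3 := by
      rintro rfl
      refine hne ?_
      have hcop := h.cop.coprime_dvd_left (Subgroup.card_dvd_of_le hYO)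
      obtain ⟨i, hi⟩ := IsPGroup.iff_card.1 hY
      rcases Nat.eq_zero_or_pos i with hi0 | hi0
      · have : Y = ⊥ := Subgroup.card_eq_one.1 (by rw [hi, hi0, pow_zero])
        rw [this, Subgroup.mem_bot] at hy
        rw [hy, mul_one, one_mul]
      · rw [hi, Nat.coprime_pow_left_iff hi0] at hcop
        norm_num at hcop
    have hc1 : c = 1 := orderOf_eq_one_iff.1 (Nat.eq_one_of_dvd_coprimes
      (Nat.Coprime.pow_left k ((Nat.coprime_primes hq.out Nat.prime_three).2 hq3))
      (orderOf_dvd_of_pow_eq_one hk') (orderOf_dvd_of_pow_eq_one h2))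
    rw [hc, hy₁, mul_inv_eq_one, mul_inv_eq_iff_eq_mul] at hc1
    exact hne hc1.symm
  clear_value c
  obtain ⟨i, hi⟩ := IsPGroup.iff_card.1 hKq
  have hi0 : i ≠ 0 := fun h0 => hncb (by
    have : K = ⊥ := Subgroup.card_eq_one.1 (by rw [hi, h0, pow_zero])
    rw [this, Subgroup.mem_bot] at hcK
    rw [hcK, mul_one, one_mul])
  rw [hi] at hd
  have hq513 : q = 5 ∨ q = 13 := by
    rcases hq.out.dvd_mul.1 ((dvd_pow_self q hi0).trans hd) with h | h
    · rcases hq.out.dvd_mul.1 h with h | h
      · exact absurd ((Nat.prime_dvd_prime_iff_eq hq.out Nat.prime_two).1 (hq.out.dvd_of_dvd_pow h)) hq2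
      · exact Or.inl ((Nat.prime_dvd_prime_iff_eq hq.out (by norm_num)).1 h)
    · exact Or.inr ((Nat.prime_dvd_prime_iff_eq hq.out (by norm_num)).1 h)
  have hi1 : i = 1 := by
    by_contra hne1
    have := (pow_dvd_pow q (show 2 ≤ i by omega)).trans hd
    rcases hq513 with rfl | rfl <;> norm_num at this
  have hKc : Nat.card K = q := by rw [hi, hi1, pow_one]
  haveI := isCyclic_of_prime_card hKc
  have hc1 : c ≠ 1 := fun h1 => hncb (by rw [h1, mul_one, one_mul])
  have hord : orderOf c = q := by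
    refine ((Nat.dvd_prime hq.out).1 (hKc ▸ Subgroup.orderOf_dvd_natCard K hcK)).resolve_left fun h1 => hc1 ?_
    exact orderOf_eq_one_iff.1 h1
  have hKz : Subgroup.zpowers c = K :=
    Subgroup.eq_of_le_of_card_ge (Subgroup.zpowers_le.2 hcK) (by rw [Nat.card_zpowers, hord, hKc])
  obtain ⟨m, hm⟩ : ∃ m : ℕ, b * c * b⁻¹ = c ^ m := by
    have h1 : b * c * b⁻¹ ∈ Subgroup.zpowers c := hKz ▸ (Subgroup.mem_normalizer_iff.1 hbK c).1 hcK
    obtain ⟨m, hm⟩ := (mem_powers_iff_mem_zpowers.2 h1 : b * c * b⁻¹ ∈ Submonoid.powers c)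
    exact ⟨m, hm.symm⟩
  rcases hq513 with rfl | rfl
  · -- order five
    have hpow : ∀ k : ℕ, b ^ k * c * (b ^ k)⁻¹ = c ^ (m ^ k) := by
      intro k
      induction k with
      | zero => simp
      | succ k ih =>
        rw [show b ^ (k + 1) * c * (b ^ (k + 1))⁻¹ = b * (b ^ k * c * (b ^ k)⁻¹) * b⁻¹ by rw [pow_succ']; group,
          ih, ← conj_pow, hm, ← pow_mul, ← pow_succ']
    have h1 := hpow 3
    rw [h.cube, one_mul, inv_one, mul_one] at h1
    have h2 : m ^ 3 % 5 = 1 := by
      have h4 : c ^ (m ^ 3) = c ^ 1 := by rw [pow_one, ← h1]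
      have h3 := pow_eq_pow_iff_modEq.1 h4
      rw [hord] at h3
      exact h3
    have h5 : m % 5 = 1 := by
      rw [Nat.pow_mod] at h2
      have := Nat.mod_lt m (show 5 > 0 by norm_num)
      interval_cases hmm : m % 5 <;> first | rfl | (exact absurd h2 (by decide))
    refine hncb (mul_inv_eq_iff_eq_mul.1 ?_)
    rw [hm]
    conv_rhs => rw [← pow_one c]
    rw [pow_eq_pow_iff_modEq, hord]
    exact h5
  · -- order thirteen
    have hbU : blk ρ b ≤ U := le_sup_left
    have hau := h.commute_thirteen (hKO hcK) hord hU4 hbU (hKmv hcK) hm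
    have hv' : c * (b * u * b⁻¹) = b * u * b⁻¹ * c := by
      have hcm : Commute (c ^ m) (b * u * b⁻¹) := by
        have h1 := congrArg (fun g => b * g * b⁻¹) hau
        show c ^ m * (b * u * b⁻¹) = b * u * b⁻¹ * c ^ m
        rw [← hm]
        calc b * c * b⁻¹ * (b * u * b⁻¹) = b * (c * u) * b⁻¹ := by group
          _ = b * (u * c) * b⁻¹ := h1
          _ = _ := by group
      have hm0 : ¬ 13 ∣ m := fun hd13 => by
        rw [orderOf_dvd_iff_pow_eq_one.1 (hord ▸ hd13), conj_eq_one_iff] at hm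
        exact hc1 hm
      obtain ⟨k, -, hk⟩ := Nat.exists_mul_mod_eq_one_of_coprime
        (((hq.out.coprime_iff_not_dvd).2 hm0).symm) (show 1 < 13 by norm_num)
      have hck : (c ^ m) ^ k = c := by
        rw [← pow_mul]
        conv_rhs => rw [← pow_one c]
        rw [pow_eq_pow_iff_modEq, hord]
        exact hk
      have := hcm.pow_left k
      rwa [hck] at this
    -- `c` fixes the line
    have hfix : ρ c e = e := by
      obtain ⟨α, hα⟩ := h.lines.line (ρ c e)
        (by rw [← apply_mul, ← hau, apply_mul, h.lines.fix])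
        (by rw [← apply_mul, ← hv', apply_mul, h.lines.neg, map_neg])
      have hpow : ∀ k : ℕ, ρ (c ^ k) e = α ^ k • e := by
        intro k
        induction k with
        | zero => simp
        | succ k ih => rw [pow_succ', apply_mul, ih, map_smul, hα, smul_smul, pow_succ]
      have h13 := hpow 13
      rw [← hord, pow_orderOf_eq_one, map_one, Module.End.one_apply, hord] at h13
      have h14 : α ^ 13 = 1 := by
        by_contra hα13
        refine h.lines.ne ((smul_eq_zero.1 (?_ : (α ^ 13 - 1) • e = 0)).resolve_left (sub_ne_zero.2 hα13))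
        rw [sub_smul, one_smul, ← h13, sub_self]
      have key : ∀ α : ZMod 3, α ^ 13 = 1 → α = 1 := by decide
      have : α = 1 := key α h14
      rw [hα, this, one_smul]
    have hfixk : ∀ k : ℕ, ρ (c ^ k) e = e := by
      intro k
      induction k with
      | zero => simp
      | succ k ih => rw [pow_succ', apply_mul, ih, hfix]
    -- then `b` and `c` commute
    have hbc : ∀ k : ℕ, ∀ x, ρ (c ^ k) x = x → ρ (c ^ (m * k)) (ρ b x) = ρ b x := fun k x hx => by
      rw [pow_mul, ← hm, conj_pow, apply_mul, apply_mul, apply_inv_self, hx]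
    obtain ⟨t, ht⟩ : ∃ t : ℕ, c ^ (m * t) = c := by
      have hm0 : ¬ 13 ∣ m := fun hd13 => by
        rw [orderOf_dvd_iff_pow_eq_one.1 (hord ▸ hd13), conj_eq_one_iff] at hm
        exact hc1 hm
      obtain ⟨k, -, hk⟩ := Nat.exists_mul_mod_eq_one_of_coprime
        (((hq.out.coprime_iff_not_dvd).2 hm0).symm) (show 1 < 13 by norm_num)
      refine ⟨k, ?_⟩
      conv_rhs => rw [← pow_one c]
      rw [pow_eq_pow_iff_modEq, hord]
      exact hk
    have hbe : ρ c (ρ b e) = ρ b e := by
      have := hbc t e (hfixk t)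
      rwa [ht] at this
    have hbek : ∀ k : ℕ, ρ (c ^ k) (ρ b e) = ρ b e := by
      intro k
      induction k with
      | zero => simp
      | succ k ih => rw [pow_succ', apply_mul, ih, hbe]
    have hbbe : ρ c (ρ b (ρ b e)) = ρ b (ρ b e) := by
      have := hbc t (ρ b e) (hbek t)
      rwa [ht] at this
    refine hncb (h.inj (LinearMap.ext fun x => ?_))
    rw [apply_mul ρ b c, apply_mul ρ c b]
    obtain ⟨α, β, γ, z, rfl, hz1, hz2⟩ := h.lines.decomp x
    have hcz : ρ b (ρ c z) = ρ c z := h.lines.fixed _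
      (by rw [← apply_mul, ← hau, apply_mul, hz1]) (by rw [← apply_mul, ← hv', apply_mul, hz2])
    simp only [map_add, map_smul, hfix, hbe, hbbe, h.b_three, h.lines.fixed z hz1 hz2, hcz]

end CfsgLib.FGStruct.CubicBlock
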