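import Mathlib
import Cfsg.Prelude
import Cfsg.Agent.Lib.FGStruct.CubicBlock.Odd
import Cfsg.Agent.Lib.PGroup.Basic

/-!
`R = [O, b]` is a `2`-group with a moved normal elementary abelian subgroup.
-/

set_option autoImplicit false
set_option linter.style.haveILetI false

open Module
open scoped commutatorElement

namespace CfsgLib.FGStruct.CubicBlock

variable {S : Type*} [Group S] [Finite S] {E : Type*} [AddCommGroup E] [Module (ZMod 3) E] [Finite E]
variable {ρ : Representation (ZMod 3) S E} {O : Subgroup S} {b u : S} {e : E}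

omit [Finite S] in
/-- `R = [R, b]` is generated by the `[h, b]`. -/
theorem le_of_comm_gen {R W : Subgroup S} (hb3 : b ^ 3 = 1) (hbR : ∀ h ∈ R, b * h * b⁻¹ ∈ R)
    (hRR : ⁅R, Subgroup.zpowers b⁆ = R) (h : ∀ g ∈ R, ⁅g, b⁆ ∈ W) : R ≤ W := by
  rw [← hRR, Subgroup.commutator_le]
  intro g hg k hk
  obtain ⟨i, rfl⟩ := hk
  have h0 : ∀ n : ℕ, ⁅g, b ^ n⁆ ∈ W := by
    intro n
    induction n generalizing g with
    | zero => rw [pow_zero, commutatorElement_one_right]; exact one_mem W
    | succ n ih =>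
      have e : ⁅g, b ^ (n + 1)⁆ = ⁅g, b⁆ * ⁅b * g * b⁻¹, b ^ n⁆ := by
        simp only [commutatorElement_def, pow_succ']
        calc g * (b * b ^ n) * g⁻¹ * (b * b ^ n)⁻¹ = g * b * (b ^ n * g⁻¹ * (b ^ n)⁻¹) * b⁻¹ := by group
          _ = g * b * g⁻¹ * b⁻¹ * (b * g * b⁻¹ * (b * (b ^ n * g⁻¹ * (b ^ n)⁻¹) * b⁻¹)) := by group
          _ = g * b * g⁻¹ * b⁻¹ * (b * g * b⁻¹ * b ^ n * (b * g * b⁻¹)⁻¹ * (b ^ n)⁻¹) := by
            congr 1
            calc b * g * b⁻¹ * (b * (b ^ n * g⁻¹ * (b ^ n)⁻¹) * b⁻¹)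
                = b * g * b⁻¹ * (b * b ^ n) * g⁻¹ * (b ^ n)⁻¹ * b⁻¹ := by group
              _ = b * g * b⁻¹ * (b ^ n * b) * g⁻¹ * (b * b ^ n)⁻¹ := by rw [pow_mul_comm' b n]; group
              _ = b * g * b⁻¹ * (b ^ n * b) * g⁻¹ * (b ^ n * b)⁻¹ := by rw [pow_mul_comm' b n]
              _ = _ := by group
      rw [e]
      exact mul_mem (h g hg) (ih _ (hbR g hg))
  obtain ⟨n, hn⟩ : b ^ i ∈ Submonoid.powers b := by
    refine ⟨(i % 3).toNat, ?_⟩
    show b ^ (i % 3).toNat = b ^ i
    rw [← zpow_natCast, Int.toNat_of_nonneg (Int.emod_nonneg _ (by norm_num))]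
    exact (zpow_eq_zpow_emod' i hb3).symm
  change ⁅g, b ^ i⁆ ∈ W
  rw [← hn]
  exact h0 n

/-- The facts about `R`. -/
structure RData (R : Subgroup S) (b : S) : Prop where
  cube : b ^ 3 = 1
  conj : ∀ h ∈ R, b * h * b⁻¹ ∈ R
  self : ⁅R, Subgroup.zpowers b⁆ = R
  two : IsPGroup 2 R

omit [Finite E] in
theorem RData.le {R W : Subgroup S} (h : RData R b) (hW : ∀ g ∈ R, ⁅g, b⁆ ∈ W) : R ≤ W :=
  le_of_comm_gen h.cube h.conj h.self hW

/-- `[O, b]` is a `2`-group. -/
theorem Setting.rdata [Group.IsSolvable S] (h : Setting ρ O b u e) : RData ⁅O, Subgroup.zpowers b⁆ b := by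
  classical
  haveI := h.nml
  haveI : Fact (Nat.Prime 2) := ⟨Nat.prime_two⟩
  set B := Subgroup.zpowers b
  have hBO : B ≤ Subgroup.normalizer (O : Set S) := Subgroup.le_normalizer_of_normal
  have hcop : (Nat.card B).Coprime (Nat.card O) := by
    rw [Nat.card_zpowers]
    exact Nat.Coprime.coprime_dvd_left (orderOf_dvd_of_pow_eq_one h.cube) h.cop.symm
  set R := ⁅O, B⁆
  have hBR : B ≤ Subgroup.normalizer (R : Set S) := CfsgLib.Solvable.le_normalizer_commutator_right O B
  have hbR : ∀ g ∈ R, b * g * b⁻¹ ∈ R := fun g hg =>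
    (Subgroup.mem_normalizer_iff.1 (hBR (Subgroup.mem_zpowers b)) g).1 hg
  have hRR : ⁅R, B⁆ = R := CfsgLib.Solvable.commutator_commutator_eq hBO hcop (Or.inr inferInstance)
  have hRO : R ≤ O := CfsgLib.Solvable.commutator_le_of_normalizes hBO
  refine ⟨h.cube, hbR, hRR, ?_⟩
  set T := Cfsg.pCore 2 R with hTdef
  haveI hTn : T.Normal := CfsgLib.Solvable.pCore_normal 2 R
  haveI hTc : T.Characteristic := CfsgLib.Solvable.pCore_characteristic 2 R
  set N := Cfsg.pPrimeCore 2 (R ⧸ T) with hNdef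
  haveI hNn : N.Normal := CfsgLib.Solvable.pPrimeCore_normal 2 _
  have hNcop : (Nat.card N).Coprime 2 := CfsgLib.Solvable.pPrimeCore_card_coprime 2 _
  let βR : R →* R := ((MulAut.conj b).toMonoidHom.comp R.subtype).codRestrict R fun g => hbR g g.2
  have hβb : Function.Bijective βR := Finite.injective_iff_bijective.1 fun x y hxy =>
    Subtype.ext ((MulAut.conj b).injective (congrArg Subtype.val hxy))
  let βe : R ≃* R := MulEquiv.ofBijective βR hβb
  let βq : R ⧸ T →* R ⧸ T := QuotientGroup.map T T βe.toMonoidHom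
    (Subgroup.characteristic_iff_le_comap.1 hTc βe)
  have hβq : ∀ g : R, βq (QuotientGroup.mk' T g) = QuotientGroup.mk' T (βR g) := fun g => rfl
  have hNβ : ∀ n ∈ N, βq n = n := by
    let C : Subgroup (R ⧸ T) :=
      { carrier := {n | βq n = n}
        one_mem' := map_one βq
        mul_mem' := fun {x y} (hx : βq x = x) (hy : βq y = y) => show βq (x * y) = x * y by rw [map_mul, hx, hy]
        inv_mem' := fun {x} (hx : βq x = x) => show βq x⁻¹ = x⁻¹ by rw [map_inv, hx] }
    suffices hle : N ≤ C from fun n hn => hle hn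
    rw [← Subgroup.subgroupOf_eq_top, ← Subgroup.index_eq_one]
    by_contra hne
    obtain ⟨r, hr, hrd⟩ := Nat.exists_prime_and_dvd hne
    haveI := Fact.mk hr
    have hrN : r ∣ Nat.card N := hrd.trans (Subgroup.index_dvd_card _)
    have hr2 : r ≠ 2 := by
      rintro rfl
      exact (Nat.Prime.coprime_iff_not_dvd hr).1 hNcop.symm hrN
    -- the preimage
    set Xr : Subgroup R := N.comap (QuotientGroup.mk' T)
    let X : Subgroup S := Xr.map R.subtype
    have hXO : X ≤ O := (Subgroup.map_subtype_le _).trans hRO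
    have hBX : B ≤ Subgroup.normalizer (X : Set S) := by
      rw [Subgroup.zpowers_le]
      refine Subgroup.mem_normalizer_iff_map_conj_eq.2 (Subgroup.eq_of_le_of_card_ge ?_
        (le_of_eq (Subgroup.card_map_of_injective (MulAut.conj b).injective).symm))
      rintro _ ⟨_, ⟨g, hg, rfl⟩, rfl⟩
      refine ⟨βR g, ?_, rfl⟩
      show QuotientGroup.mk' T (βR g) ∈ N
      rw [← hβq]
      haveI := CfsgLib.Solvable.pPrimeCore_characteristic 2 (R ⧸ T)
      have hinj : Function.Injective βq := Finite.injective_iff_surjective.2 fun y => by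
        obtain ⟨y, rfl⟩ := QuotientGroup.mk'_surjective T y
        exact ⟨QuotientGroup.mk' T (βe.symm y), (hβq _).trans (congrArg _ (βe.apply_symm_apply y))⟩
      exact Subgroup.characteristic_iff_le_comap.1 (inferInstance : N.Characteristic)
        (MulEquiv.ofBijective βq ⟨hinj, Finite.injective_iff_surjective.1 hinj⟩) hg
    obtain ⟨Y, hY⟩ := CfsgLib.Solvable.exists_invariant_sylow (A := B) (K := X) hBX
      (hcop.coprime_dvd_right (Subgroup.card_dvd_of_le hXO)) (Or.inl inferInstance) r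
    have hfix := h.commute_of_invariant hr2 ((Subgroup.map_subtype_le _).trans hXO) (Y.isPGroup'.map _)
      (hY (Subgroup.mem_zpowers b))
    let φ : X →* N :=
      ((QuotientGroup.mk' T).comp (Subgroup.inclusion (Subgroup.map_subtype_le Xr))).codRestrict N fun x => by
        obtain ⟨g, hg, hgx⟩ := x.2
        have : Subgroup.inclusion (Subgroup.map_subtype_le Xr) x = g := Subtype.ext hgx.symm
        show QuotientGroup.mk' T (Subgroup.inclusion (Subgroup.map_subtype_le Xr) x) ∈ N
        rw [this]; exact hg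
    have hφ : Function.Surjective φ := fun n => by
      obtain ⟨g, hg⟩ := QuotientGroup.mk'_surjective T n
      have hgX : g ∈ Xr := by show QuotientGroup.mk' T g ∈ N; rw [hg]; exact n.2
      exact ⟨⟨g, g, hgX, rfl⟩, Subtype.ext hg⟩
    have hle : ((Y.mapSurjective hφ : Sylow r N) : Subgroup N) ≤ C.subgroupOf N := by
      rw [Sylow.coe_mapSurjective]
      rintro _ ⟨y, hy, rfl⟩
      show βq (QuotientGroup.mk' T (Subgroup.inclusion (Subgroup.map_subtype_le Xr) y)) = _
      rw [hβq]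
      refine congrArg _ (Subtype.ext ?_)
      show b * (y : S) * b⁻¹ = y
      rw [hfix y ⟨y, hy, rfl⟩, mul_inv_cancel_right]
    exact (Y.mapSurjective hφ).not_dvd_index (hrd.trans (Subgroup.index_dvd_of_le hle))
  have hps : Cfsg.IsPSolvable 2 (R ⧸ T) := CfsgLib.ThompsonFactor.isPSolvable_of_isSolvable inferInstance
  have hCN := CfsgLib.PLocal.centralizer_pPrimeCore_le_self hps (CfsgLib.Solvable.pCore_quotient_eq_bot T hTdef)
  -- `R` centralizes `N`
  have hcen : R ≤ ((Subgroup.centralizer (N : Set (R ⧸ T))).comap (QuotientGroup.mk' T)).map R.subtype := by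
    refine le_of_comm_gen h.cube hbR hRR fun g hg => ?_
    refine ⟨⟨g, hg⟩ * (βR ⟨g, hg⟩)⁻¹, ?_, ?_⟩
    · rw [SetLike.mem_coe, Subgroup.mem_comap, Subgroup.mem_centralizer_iff]
      intro n hn
      set x := QuotientGroup.mk' T (⟨g, hg⟩ : R)
      rw [map_mul, map_inv, ← hβq]
      have h1 : βq (x⁻¹ * n * x) = x⁻¹ * n * x := hNβ _ (by simpa using hNn.conj_mem n hn x⁻¹)
      rw [map_mul, map_mul, map_inv, hNβ n hn] at h1
      calc n * (x * (βq x)⁻¹) = x * (x⁻¹ * n * x) * (βq x)⁻¹ := by group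
        _ = x * ((βq x)⁻¹ * n * βq x) * (βq x)⁻¹ := by rw [h1]
        _ = x * (βq x)⁻¹ * n := by group
    · show g * (b * g * b⁻¹)⁻¹ = ⁅g, b⁆
      rw [commutatorElement_def]; group
  have hβ1 : ∀ g : R, βq (QuotientGroup.mk' T g) = QuotientGroup.mk' T g := by
    intro g
    obtain ⟨g', hg', hgg⟩ := hcen g.2
    obtain rfl : g' = g := Subtype.ext hgg
    exact hNβ _ (hCN hg')
  have hRT : R ≤ T.map R.subtype := by
    refine le_of_comm_gen h.cube hbR hRR fun g hg => ⟨⟨g, hg⟩ * (βR ⟨g, hg⟩)⁻¹, ?_, ?_⟩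
    · rw [SetLike.mem_coe, ← QuotientGroup.eq_one_iff]
      show QuotientGroup.mk' T _ = 1
      rw [map_mul, map_inv, ← hβq, hβ1, mul_inv_cancel]
    · show g * (b * g * b⁻¹)⁻¹ = ⁅g, b⁆
      rw [commutatorElement_def]; group
  exact ((CfsgLib.Solvable.pCore_isPGroup 2 R).map R.subtype).to_le hRT

/-- An `R`- and `b`-invariant elementary abelian `2`-subgroup of `R` containing a rotated four-group. -/
structure Elem (R D : Subgroup S) (b w : S) : Prop where
  le : D ≤ R
  sq : ∀ d ∈ D, d * d = 1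
  comm : ∀ d ∈ D, ∀ d' ∈ D, d * d' = d' * d
  conj : ∀ r ∈ R, ∀ d ∈ D, r * d * r⁻¹ ∈ D
  conjb : ∀ d ∈ D, b * d * b⁻¹ ∈ D
  four : Four b w
  mem : w ∈ D

omit [Finite E] in
theorem exists_four_of_moved {D : Subgroup S} (hb3 : b ^ 3 = 1) (hsq : ∀ d ∈ D, d * d = 1)
    (hcomm : ∀ d ∈ D, ∀ d' ∈ D, d * d' = d' * d) (hbD : ∀ d ∈ D, b * d * b⁻¹ ∈ D)
    (hmv : ∃ d ∈ D, b * d ≠ d * b) : ∃ w ∈ D, Four b w := by
  obtain ⟨d, hd, hne⟩ := hmv
  set c := b * d * b⁻¹ * d⁻¹ with hc
  have hcD : c ∈ D := mul_mem (hbD d hd) (inv_mem hd)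
  have hc1 : c ≠ 1 := fun h => hne (mul_inv_eq_iff_eq_mul.1 (mul_inv_eq_one.1 h))
  refine ⟨c, hcD, hsq c hcD, hc1, hcomm c hcD _ (hbD c hcD), ?_⟩
  set c1 := b * c * b⁻¹
  set c2 := b * c1 * b⁻¹
  have hd3 : b * (b * (b * d * b⁻¹) * b⁻¹) * b⁻¹ = d := by
    calc b * (b * (b * d * b⁻¹) * b⁻¹) * b⁻¹ = b ^ 3 * d * (b ^ 3)⁻¹ := by rw [pow_three']; group
      _ = d := by rw [hb3]; simp
  have hprod : c2 * c1 * c = 1 := by
    calc c2 * c1 * c = b * (b * (b * d * b⁻¹) * b⁻¹) * b⁻¹ * d⁻¹ := by simp only [c2, c1, hc]; group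
      _ = 1 := by rw [hd3, mul_inv_cancel]
  have h2 : c2 = c⁻¹ * c1⁻¹ := by
    rw [mul_assoc] at hprod
    rw [eq_inv_of_mul_eq_one_left hprod, mul_inv_rev]
  rw [h2, inv_eq_of_mul_eq_one_left (hsq c hcD), inv_eq_of_mul_eq_one_left (hsq c1 (hbD c hcD))]

omit [Finite E] in
theorem RData.exists_elem {R : Subgroup S} (h : RData R b) (hu : Four b u) (huR : u ∈ R) :
    ∃ D w, Elem R D b w := by
  classical
  haveI : Fact (Nat.Prime 2) := ⟨Nat.prime_two⟩
  have hvR : b * u * b⁻¹ ∈ R := h.conj u huR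
  by_cases hcl : ∀ x ∈ R, ∀ y ∈ R, ∀ z ∈ R, z * ⁅x, y⁆ = ⁅x, y⁆ * z
  · -- class two
    let I : Set S := {z | z ∈ R ∧ z * z = 1 ∧ ∀ r ∈ R, r * z = z * r}
    let D := Subgroup.closure ({u, b * u * b⁻¹} ∪ I)
    have hgen : ∀ g ∈ ({u, b * u * b⁻¹} ∪ I : Set S), g ∈ R ∧ g * g = 1 := by
      rintro g ((rfl | hg) | ⟨h1, h2, -⟩)
      · exact ⟨huR, hu.sq⟩
      · rw [Set.mem_singleton_iff] at hg
        rw [hg]
        exact ⟨hvR, by rw [show b * u * b⁻¹ * (b * u * b⁻¹) = b * (u * u) * b⁻¹ by group, hu.sq]; simp⟩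
      · exact ⟨h1, h2⟩
    have hcg : ∀ g ∈ ({u, b * u * b⁻¹} ∪ I : Set S), ∀ g' ∈ ({u, b * u * b⁻¹} ∪ I : Set S), g * g' = g' * g := by
      rintro g (hg | hg) g' (hg' | hg')
      · rcases hg with hg | hg <;> rcases hg' with hg' | hg' <;>
          (try rw [Set.mem_singleton_iff] at hg) <;> (try rw [Set.mem_singleton_iff] at hg') <;>
          subst hg <;> subst hg' <;> first | rfl | exact hu.comm | exact hu.comm.symm
      · exact hg'.2.2 g (hgen g (Or.inl hg)).1
      · exact (hg.2.2 g' (hgen g' (Or.inl hg')).1).symm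
      · exact hg'.2.2 g hg.1
    have hDc : IsMulCommutative D := Subgroup.le_centralizer_iff_isMulCommutative.1 (by
      rw [Subgroup.centralizer_closure, Subgroup.closure_le]
      exact fun a ha c hc => hcg c hc a ha)
    have hDR : D ≤ R := (Subgroup.closure_le _).2 fun g hg => (hgen g hg).1
    have hcomm : ∀ d ∈ D, ∀ d' ∈ D, d * d' = d' * d := fun d hd d' hd' =>
      congrArg Subtype.val (hDc.is_comm.comm ⟨d, hd⟩ ⟨d', hd'⟩)
    have hsq : ∀ d ∈ D, d * d = 1 := by
      intro d hd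
      induction hd using Subgroup.closure_induction with
      | mem x hx => exact (hgen x hx).2
      | one => exact mul_one 1
      | mul x y hx hy ihx ihy =>
        calc x * y * (x * y) = x * (y * x) * y := by group
          _ = x * (x * y) * y := by rw [hcomm y hy x hx]
          _ = (x * x) * (y * y) := by group
          _ = 1 := by rw [ihx, ihy, mul_one]
      | inv x _ ihx => rw [← mul_inv_rev, ihx, inv_one]
    have hI : ∀ x ∈ R, ∀ y ∈ R, y * y = 1 → ⁅x, y⁆ ∈ I := by
      intro x hx y hy hyy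
      refine ⟨?_, ?_, fun r hr => hcl x hx y hy r hr⟩
      · rw [commutatorElement_def]; exact mul_mem (mul_mem (mul_mem hx hy) (inv_mem hx)) (inv_mem hy)
      · have h1 : y * ⁅x, y⁆ = ⁅x, y⁆ * y := hcl x hx y hy y hy
        calc ⁅x, y⁆ * ⁅x, y⁆ = ⁅x, y⁆ * (y * ⁅x, y⁆) * y⁻¹ := by rw [h1]; group
          _ = ⁅x, y * y⁆ := by simp only [commutatorElement_def]; group
          _ = 1 := by rw [hyy, commutatorElement_one_right]
    have hconj : ∀ r ∈ R, ∀ d ∈ D, r * d * r⁻¹ ∈ D := by
      intro r hr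
      have hle : D ≤ D.comap (MulAut.conj r).toMonoidHom := (Subgroup.closure_le _).2 fun g hg => by
        show r * g * r⁻¹ ∈ D
        rw [show r * g * r⁻¹ = ⁅r, g⁆ * g by rw [commutatorElement_def]; group]
        exact mul_mem (Subgroup.subset_closure (Or.inr (hI r hr g (hgen g hg).1 (hgen g hg).2)))
          (Subgroup.subset_closure hg)
      exact fun d hd => hle hd
    have hbD : ∀ d ∈ D, b * d * b⁻¹ ∈ D := by
      have hle : D ≤ D.comap (MulAut.conj b).toMonoidHom := (Subgroup.closure_le _).2 fun g hg => by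
        show b * g * b⁻¹ ∈ D
        rcases hg with (hg | hg) | hg
        · rw [hg]; exact Subgroup.subset_closure (Or.inl (Or.inr rfl))
        · rw [Set.mem_singleton_iff] at hg
          rw [hg, hu.rot]
          exact mul_mem (Subgroup.subset_closure (Or.inl (Or.inl rfl))) (Subgroup.subset_closure (Or.inl (Or.inr rfl)))
        · refine Subgroup.subset_closure (Or.inr ⟨h.conj g hg.1, ?_, fun r hr => ?_⟩)
          · rw [show b * g * b⁻¹ * (b * g * b⁻¹) = b * (g * g) * b⁻¹ by group, hg.2.1]; simp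
          · have hr' : b⁻¹ * r * b ∈ R := by
              have := h.conj _ (h.conj r hr)
              have hb2 : b * b = b⁻¹ := eq_inv_of_mul_eq_one_left (by rw [← pow_three']; exact h.cube)
              have e : b⁻¹ * r * b = b * (b * r * b⁻¹) * b⁻¹ := by
                calc b⁻¹ * r * b = (b * b) * r * (b * b)⁻¹ := by rw [hb2, inv_inv]
                  _ = _ := by group
              rw [e]; exact this
            calc r * (b * g * b⁻¹) = b * ((b⁻¹ * r * b) * g) * b⁻¹ := by group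
              _ = b * (g * (b⁻¹ * r * b)) * b⁻¹ := by rw [hg.2.2 _ hr']
              _ = b * g * b⁻¹ * r := by group
      exact fun d hd => hle hd
    exact ⟨D, u, hDR, hsq, hcomm, hconj, hbD, hu, Subgroup.subset_closure (Or.inl (Or.inl rfl))⟩
  · -- a noncentral normal abelian subgroup
    push Not at hcl
    obtain ⟨x, hx, y, hy, z, hz, hne⟩ := hcl
    let Z := Subgroup.center R
    let π := QuotientGroup.mk' Z
    let M := (commutator R).map π
    haveI : M.Normal := (inferInstance : (commutator R).Normal).map π (QuotientGroup.mk'_surjective Z)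
    have hM : M ≠ ⊥ := by
      intro hbot
      refine hne ?_
      have h1 : π ⁅(⟨x, hx⟩ : R), ⟨y, hy⟩⁆ ∈ M := ⟨_, by
        rw [commutator_def]; exact Subgroup.commutator_mem_commutator (Subgroup.mem_top _) (Subgroup.mem_top _), rfl⟩
      rw [hbot, Subgroup.mem_bot] at h1
      exact congrArg Subtype.val (Subgroup.mem_center_iff.1 ((QuotientGroup.eq_one_iff _).1 h1) ⟨z, hz⟩)
    obtain ⟨t, htM, htc, hto⟩ := CfsgLib.PGroup.exists_central_orderOf_eq (h.two.to_quotient Z) M hM
    obtain ⟨a, haR, rfl⟩ := htM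
    set Ar : Subgroup R := commutator R ⊓ (Subgroup.center (R ⧸ Z)).comap π
    have hiff : ∀ g : R, π g ∈ Subgroup.center (R ⧸ Z) ↔ ∀ q : R, ⁅g, q⁆ ∈ Z := by
      intro g
      rw [Subgroup.mem_center_iff]
      constructor
      · intro hc q
        refine (QuotientGroup.eq_one_iff _).1 ?_
        show π ⁅g, q⁆ = 1
        rw [map_commutatorElement, commutatorElement_eq_one_iff_mul_comm]
        exact (hc (π q)).symm
      · intro hc q
        obtain ⟨q, rfl⟩ := QuotientGroup.mk'_surjective Z q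
        have h1 : π ⁅g, q⁆ = 1 := (QuotientGroup.eq_one_iff _).2 (hc q)
        rw [map_commutatorElement, commutatorElement_eq_one_iff_mul_comm] at h1
        exact h1.symm
    have hAc : Ar.Characteristic := by
      rw [Subgroup.characteristic_iff_le_comap]
      intro φ g hg
      refine ⟨Subgroup.characteristic_iff_le_comap.1 inferInstance φ hg.1, (hiff (φ g)).2 fun q => ?_⟩
      obtain ⟨q, rfl⟩ := φ.surjective q
      rw [← map_commutatorElement]
      exact Subgroup.characteristic_iff_le_comap.1 Subgroup.centerCharacteristic φ ((hiff g).1 hg.2 q)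
    haveI := hAc
    have hab : ∀ g ∈ Ar, ∀ g' ∈ Ar, g * g' = g' * g := by
      intro g hg g' hg'
      have hcz : ∀ q : R, ⁅g, q⁆ ∈ Z := fun q => (QuotientGroup.eq_one_iff _).1 (by
        show π ⁅g, q⁆ = 1
        rw [map_commutatorElement, commutatorElement_eq_one_iff_mul_comm]
        exact (Subgroup.mem_center_iff.1 (show π g ∈ Subgroup.center (R ⧸ Z) from hg.2) (π q)).symm)
      let f : R →* R :=
        { toFun := fun q => ⁅g, q⁆
          map_one' := commutatorElement_one_right g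
          map_mul' := fun p q => by
            have e : ⁅g, p * q⁆ = ⁅g, p⁆ * (p * ⁅g, q⁆ * p⁻¹) := by simp only [commutatorElement_def]; group
            rw [e, Subgroup.mem_center_iff.1 (hcz q) p, mul_inv_cancel_right] }
      have hle : commutator R ≤ f.ker := by
        rw [commutator_def, Subgroup.commutator_le]
        intro p _ q _
        rw [MonoidHom.mem_ker, map_commutatorElement, commutatorElement_eq_one_iff_mul_comm]
        exact Subgroup.mem_center_iff.1 (hcz q) (f p)
      exact commutatorElement_eq_one_iff_mul_comm.1 (MonoidHom.mem_ker.1 (hle hg'.1))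
    have haA : a ∈ Ar := ⟨haR, htc⟩
    have haZ : a ∉ Z := fun hz' => by
      have : π a = 1 := (QuotientGroup.eq_one_iff a).2 hz'
      rw [this, orderOf_one] at hto
      norm_num at hto
    set A : Subgroup S := Ar.map R.subtype
    have hAconj : ∀ r ∈ R, ∀ d ∈ A, r * d * r⁻¹ ∈ A := by
      rintro r hr _ ⟨d, hd, rfl⟩
      exact ⟨_, (inferInstance : Ar.Normal).conj_mem d hd ⟨r, hr⟩, rfl⟩
    have hbA : ∀ d ∈ A, b * d * b⁻¹ ∈ A := by
      rintro _ ⟨d, hd, rfl⟩
      let βR : R →* R := ((MulAut.conj b).toMonoidHom.comp R.subtype).codRestrict R fun g => h.conj g g.2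
      have hb' : Function.Bijective βR := Finite.injective_iff_bijective.1 fun p q hpq =>
        Subtype.ext ((MulAut.conj b).injective (congrArg Subtype.val hpq))
      exact ⟨βR d, Subgroup.characteristic_iff_le_comap.1 hAc (MulEquiv.ofBijective βR hb') hd, rfl⟩
    have hAcomm : ∀ d ∈ A, ∀ d' ∈ A, d * d' = d' * d := by
      rintro _ ⟨d, hd, rfl⟩ _ ⟨d', hd', rfl⟩
      rw [← map_mul, ← map_mul, hab d hd d' hd']
    let D : Subgroup S :=
      { carrier := {d | d ∈ A ∧ d * d = 1}
        one_mem' := ⟨one_mem A, mul_one 1⟩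
        mul_mem' := fun {p q} hp hq => ⟨mul_mem hp.1 hq.1, by
          calc p * q * (p * q) = p * (q * p) * q := by group
            _ = p * (p * q) * q := by rw [hAcomm q hq.1 p hp.1]
            _ = (p * p) * (q * q) := by group
            _ = 1 := by rw [hp.2, hq.2, mul_one]⟩
        inv_mem' := fun {p} hp => ⟨inv_mem hp.1, by rw [← mul_inv_rev, hp.2, inv_one]⟩ }
    have hbD : ∀ d ∈ D, b * d * b⁻¹ ∈ D := fun d hd => ⟨hbA d hd.1, by
      rw [show b * d * b⁻¹ * (b * d * b⁻¹) = b * (d * d) * b⁻¹ by group, hd.2]; simp⟩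
    have hAR : A ≤ R := Subgroup.map_subtype_le _
    have hmv : ∃ d ∈ D, b * d ≠ d * b := by
      by_contra hfix
      push Not at hfix
      have hb2 : ∀ k : ℕ, ∀ d ∈ A, d ^ 2 ^ k = 1 → b * d = d * b := by
        intro k
        induction k with
        | zero => intro d _ hd; rw [pow_zero, pow_one] at hd; rw [hd, mul_one, one_mul]
        | succ k ih =>
          intro d hd hdk
          have h2 : b * (d * d) = d * d * b := ih _ (mul_mem hd hd) (by rw [← pow_two, ← pow_mul, ← pow_succ']; exact hdk)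
          set c := b * d * b⁻¹ * d⁻¹ with hc
          have hcA : c ∈ A := mul_mem (hbA d hd) (inv_mem hd)
          have hcD : c ∈ D := ⟨hcA, by
            calc c * c = b * d * b⁻¹ * (d⁻¹ * (b * d * b⁻¹)) * d⁻¹ := by rw [hc]; group
              _ = b * d * b⁻¹ * ((b * d * b⁻¹) * d⁻¹) * d⁻¹ := by rw [hAcomm _ (inv_mem hd) _ (hbA d hd)]
              _ = b * (d * d) * b⁻¹ * (d * d)⁻¹ := by group
              _ = 1 := by rw [h2]; group⟩
          have hcb := hfix c hcD
          have e1 : b * d * b⁻¹ = c * d := by rw [hc]; group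
          clear_value c
          have hc2 : c * c = 1 := hcD.2
          have hbc : b * c * b⁻¹ = c := by rw [hcb, mul_inv_cancel_right]
          have e2 : b * (b * d * b⁻¹) * b⁻¹ = d := by
            calc b * (b * d * b⁻¹) * b⁻¹ = (b * c * b⁻¹) * (b * d * b⁻¹) := by nth_rw 1 [e1]; group
              _ = c * c * d := by rw [hbc, e1, mul_assoc]
              _ = d := by rw [hc2, one_mul]
          have e3 : b * d * b⁻¹ = d := by
            calc b * d * b⁻¹ = b * (b * (b * d * b⁻¹) * b⁻¹) * b⁻¹ := by rw [e2]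
              _ = b ^ 3 * d * (b ^ 3)⁻¹ := by rw [pow_three']; group
              _ = d := by rw [h.cube]; simp
          exact mul_inv_eq_iff_eq_mul.1 e3
      -- so `R` centralizes `A`
      refine haZ (Subgroup.mem_center_iff.2 fun r => ?_)
      have hbA' : ∀ d ∈ A, b * d = d * b := fun d hd => by
        obtain ⟨k, hk⟩ := h.two ⟨d, hAR hd⟩
        exact hb2 k d hd (congrArg Subtype.val hk)
      have hle : R ≤ Subgroup.centralizer (A : Set S) := h.le fun g hg => by
        rw [Subgroup.mem_centralizer_iff]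
        intro d hd
        have hd' : g⁻¹ * d * g ∈ A := by simpa using hAconj g⁻¹ (inv_mem hg) d hd
        calc d * ⁅g, b⁆ = g * ((g⁻¹ * d * g) * b) * g⁻¹ * b⁻¹ := by rw [commutatorElement_def]; group
          _ = g * (b * (g⁻¹ * d * g)) * g⁻¹ * b⁻¹ := by rw [hbA' _ hd']
          _ = g * b * g⁻¹ * (d * b⁻¹) := by group
          _ = g * b * g⁻¹ * (b⁻¹ * d) := by
            rw [((show Commute b d from hbA' d hd).inv_left).eq]
          _ = ⁅g, b⁆ * d := by rw [commutatorElement_def]; group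
      exact Subtype.ext (Subgroup.mem_centralizer_iff.1 (hle r.2) a ⟨a, haA, rfl⟩).symm
    obtain ⟨w, hw, hw4⟩ := exists_four_of_moved (D := D) h.cube (fun d hd => hd.2)
      (fun d hd d' hd' => hAcomm d hd.1 d' hd'.1) hbD hmv
    exact ⟨D, w, fun d hd => hAR hd.1, fun d hd => hd.2, fun d hd d' hd' => hAcomm d hd.1 d' hd'.1,
      fun r hr d hd => ⟨hAconj r hr d hd.1, by
        rw [show r * d * r⁻¹ * (r * d * r⁻¹) = r * (d * d) * r⁻¹ by group, hd.2]; simp⟩, hbD, hw4, hw⟩

end CfsgLib.FGStruct.CubicBlock
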