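import Mathlib
import Cfsg.Prelude
import Cfsg.Agent.Lib.FGStruct.CubicBlock.TwoGroup
import Cfsg.Agent.Lib.FGStruct.CubicBlock.Perm

/-!
The monomial frame of `R = [O, b]`.
-/

set_option autoImplicit false
set_option linter.style.haveILetI false

open Module
open scoped commutatorElement

namespace CfsgLib.FGStruct.CubicBlock

universe uE

variable {S : Type*} [Group S] [Finite S] {E : Type uE} [AddCommGroup E] [Module (ZMod 3) E] [Finite E]
variable {ρ : Representation (ZMod 3) S E} {O : Subgroup S} {b u : S} {e : E}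

theorem eq_zero_of_eq_neg {x : E} (h : x = -x) : x = 0 := by
  have h1 : x + x = 0 := by nth_rw 2 [h]; rw [add_neg_cancel]
  rwa [two_smul_self, neg_eq_zero] at h1

omit [Finite E] [Finite S] in
theorem smul_sign {g : S} (hg : g * g = 1) {x : E} {α : ZMod 3} (h : ρ g x = α • x) : ρ g x = x ∨ ρ g x = -x := by
  have h1 : ρ g (ρ g x) = x := by rw [← apply_mul, hg, map_one, Module.End.one_apply]
  rw [h, map_smul, h, smul_smul] at h1
  have key : ∀ a : ZMod 3, a = 1 ∨ a = -1 ∨ a * a = 0 := by decide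
  rcases key α with ha | ha | ha
  · exact Or.inl (by rw [h, ha, one_smul])
  · exact Or.inr (by rw [h, ha, neg_one_smul])
  · rw [ha, zero_smul] at h1
    exact Or.inl (by rw [← h1, map_zero])

/-- A monomial frame. -/
structure Frame (ρ : Representation (ZMod 3) S E) (R D : Subgroup S) (b : S) (ι : Type uE) where
  vec : ι → E
  θ : R →* Equiv.Perm ι
  σ : Equiv.Perm ι
  a : ι
  ne : ∀ i, vec i ≠ 0
  smul : ∀ (r : R) (i : ι), ∃ s : ZMod 3, ρ r (vec i) = s • vec (θ r i)
  bvec : ∀ i, ρ b (vec i) = vec (σ i)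
  diag : ∀ d ∈ D, ∀ i, ρ d (vec i) = vec i ∨ ρ d (vec i) = -vec i
  sep : ∀ i j, i ≠ j → ∃ d ∈ D, (ρ d (vec i) = vec i ∧ ρ d (vec j) = -vec j) ∨ (ρ d (vec i) = -vec i ∧ ρ d (vec j) = vec j)
  neg : ∀ i, ∃ d ∈ D, ρ d (vec i) = -vec i
  moves : blk ρ b ≤ Submodule.span (ZMod 3) (Set.range vec)
  cyc_ne : σ a ≠ a
  cyc : σ (σ (σ a)) = a
  cyc_fix : ∀ x, x ≠ a → x ≠ σ a → x ≠ σ (σ a) → σ x = x
  kind : (Nat.card ι = 3 ∧ ∀ r i, θ r i = i) ∨
    (Nat.card ι = 4 ∧ (∀ i, ∃ r, θ r a = i) ∧ (∀ r i, θ (r * r) i = i) ∧ ∀ r i, θ r i = i → θ r = 1)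

omit [Finite E] in
/-- Eigenvectors of the four-group. -/
theorem Setting.classify (h : Setting ρ O b u e) {y : E} (hy1 : ρ u y = y ∨ ρ u y = -y)
    (hy2 : ρ (b * u * b⁻¹) y = y ∨ ρ (b * u * b⁻¹) y = -y) :
    (∃ α : ZMod 3, y = α • e) ∨ (∃ α : ZMod 3, y = α • ρ b e) ∨ (∃ α : ZMod 3, y = α • ρ b (ρ b e)) ∨
      (ρ u y = y ∧ ρ (b * u * b⁻¹) y = y) := by
  set v := b * u * b⁻¹ with hv
  have hb1 : ∀ z, ρ u (ρ b (ρ b z)) = ρ b (ρ b (ρ v z)) := fun z => by
    have e1 : u * b * b = b * b * v := by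
      have h1 : b⁻¹ = b * b := inv_eq_of_mul_eq_one_left (by rw [← pow_three']; exact h.cube)
      rw [hv, h1]
      calc u * b * b = b ^ 3 * u * (b * b) := by rw [h.cube]; group
        _ = _ := by rw [pow_three']; group
    rw [← apply_mul, ← apply_mul, ← apply_mul, ← apply_mul, e1]
  have hb2 : ∀ z, ρ v (ρ b (ρ b z)) = ρ b (ρ b (ρ (u * v) z)) := fun z => by
    have e1 : v * b * b = b * b * (u * v) := by
      rw [← h.four.rot]
      have h1 : b⁻¹ = b * b := inv_eq_of_mul_eq_one_left (by rw [← pow_three']; exact h.cube)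
      rw [hv, h1]
      calc b * u * (b * b) * b * b = b * u * (b ^ 3) * b := by rw [pow_three']; group
        _ = b * u * b := by rw [h.cube]; group
        _ = b ^ 3 * b * u * (b ^ 3) * b := by rw [h.cube]; group
        _ = _ := by rw [pow_three']; group
    rw [← apply_mul, ← apply_mul, ← apply_mul, ← apply_mul, e1]
  have hu2 : ∀ z, ρ u (ρ b z) = ρ b (ρ (u * v) z) := fun z => by
    have e1 : u * b = b * (u * v) := by
      rw [← h.four.rot]
      calc u * b = b ^ 3 * u * (b ^ 3)⁻¹ * b := by rw [h.cube]; group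
        _ = _ := by rw [pow_three']; group
    rw [← apply_mul, ← apply_mul, e1]
  have hv2 : ∀ z, ρ v (ρ b z) = ρ b (ρ u z) := fun z => by
    rw [← apply_mul, ← apply_mul, hv, inv_mul_cancel_right]
  rcases hy1 with h1 | h1 <;> rcases hy2 with h2 | h2
  · exact Or.inr (Or.inr (Or.inr ⟨h1, h2⟩))
  · exact Or.inl (h.lines.line y h1 h2)
  · obtain ⟨α, hα⟩ := h.lines.line (ρ b (ρ b y)) (by rw [hb1, h2]) (by
      rw [hb2, apply_mul, h2, h1, map_neg, map_neg])
    refine Or.inr (Or.inl ⟨α, ?_⟩)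
    rw [← map_smul, ← hα, h.b_three]
  · obtain ⟨α, hα⟩ := h.lines.line (ρ b y) (by
      rw [hu2, apply_mul, h2, map_neg, h1, neg_neg]) (by rw [hv2, h1, map_neg])
    refine Or.inr (Or.inr (Or.inl ⟨α, ?_⟩))
    rw [← map_smul, ← map_smul, ← hα, h.b_three]

/-- The frame exists. -/
theorem Setting.exists_frame (h : Setting ρ O b u e) {R D : Subgroup S} (hR : RData R b) (hD : Elem R D b u) :
    ∃ ι : Type uE, Finite ι ∧ Nonempty (Frame ρ R D b ι) := by
  classical
  set v := b * u * b⁻¹ with hv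
  have hvD : v ∈ D := hD.conjb u hD.mem
  obtain ⟨f1, f2, f3, f4⟩ := h.four_apply
  have hsign : ∀ d ∈ D, ρ d e = e ∨ ρ d e = -e := by
    intro d hd
    obtain ⟨α, hα⟩ := h.lines.line (ρ d e)
      (by rw [← apply_mul, hD.comm u hD.mem d hd, apply_mul, h.lines.fix])
      (by rw [← apply_mul, hD.comm v hvD d hd, apply_mul, h.lines.neg, map_neg])
    exact smul_sign (hD.sq d hd) hα
  let Eig : E → Prop := fun y => ∀ d ∈ D, ρ d y = y ∨ ρ d y = -y
  have hbi : b⁻¹ = b * b := inv_eq_of_mul_eq_one_left (by rw [← pow_three']; exact h.cube)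
  have hbD' : ∀ d ∈ D, b⁻¹ * d * b ∈ D := fun d hd => by
    have := hD.conjb _ (hD.conjb d hd)
    have e1 : b⁻¹ * d * b = b * (b * d * b⁻¹) * b⁻¹ := by
      calc b⁻¹ * d * b = (b * b) * d * (b * b)⁻¹ := by rw [← hbi, inv_inv]
        _ = _ := by group
    rw [e1]; exact this
  have hEigb : ∀ y, Eig y → Eig (ρ b y) := fun y hy d hd => by
    have e1 : ρ d (ρ b y) = ρ b (ρ (b⁻¹ * d * b) y) := by
      rw [← apply_mul, ← apply_mul]; congr 2; group
    rcases hy _ (hbD' d hd) with h' | h' <;> rw [e1, h']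
    · exact Or.inl rfl
    · exact Or.inr (map_neg _ _)
  have hEigR : ∀ y, Eig y → ∀ r ∈ R, Eig (ρ r y) := fun y hy r hr d hd => by
    have e1 : ρ d (ρ r y) = ρ r (ρ (r⁻¹ * d * r) y) := by
      rw [← apply_mul, ← apply_mul]; congr 2; group
    have hd' : r⁻¹ * d * r ∈ D := by simpa using hD.conj r⁻¹ (inv_mem hr) d hd
    rcases hy _ hd' with h' | h' <;> rw [e1, h']
    · exact Or.inl rfl
    · exact Or.inr (map_neg _ _)
  have hconjR : ∀ r ∈ R, b⁻¹ * r * b ∈ R := fun r hr => by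
    have := hR.conj _ (hR.conj r hr)
    have e1 : b⁻¹ * r * b = b * (b * r * b⁻¹) * b⁻¹ := by
      calc b⁻¹ * r * b = (b * b) * r * (b * b)⁻¹ := by rw [← hbi, inv_inv]
        _ = _ := by group
    rw [e1]; exact this
  have hbe0 : ρ b e ≠ 0 := fun h0 => h.lines.ne (by rw [← h.b_three e, h0, map_zero, map_zero])
  have hbbe0 : ρ b (ρ b e) ≠ 0 := fun h0 => h.lines.ne (by rw [← h.b_three e, h0, map_zero])
  by_cases hA : ∀ r ∈ R, ∃ s : ZMod 3, ρ r e = s • e
  · -- three fixed lines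
    let vec : ULift.{uE} (Fin 3) → E := fun i => ![e, ρ b e, ρ b (ρ b e)] i.down
    let σ : Equiv.Perm (ULift.{uE} (Fin 3)) :=
      Equiv.ulift.trans ((Equiv.addRight 1).trans Equiv.ulift.symm)
    have hσ : ∀ i, σ i = ULift.up (i.down + 1) := fun i => rfl
    refine ⟨ULift.{uE} (Fin 3), inferInstance, ⟨{
      vec := vec, θ := 1, σ := σ, a := ULift.up 0
      ne := ?_, smul := ?_, bvec := ?_, diag := ?_, sep := ?_, neg := ?_, moves := ?_, cyc_ne := ?_, cyc := ?_,
      cyc_fix := ?_, kind := Or.inl ⟨by simp, fun r i => rfl⟩ }⟩⟩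
    · rintro ⟨i⟩; fin_cases i
      exacts [h.lines.ne, hbe0, hbbe0]
    · rintro r ⟨i⟩
      obtain ⟨s1, hs1⟩ := hA r r.2
      obtain ⟨s2, hs2⟩ := hA _ (hconjR r r.2)
      obtain ⟨s3, hs3⟩ := hA _ (hconjR _ (hconjR r r.2))
      have e2 : ρ r (ρ b e) = ρ b (ρ (b⁻¹ * r * b) e) := by rw [← apply_mul, ← apply_mul]; congr 2; group
      have e3 : ρ r (ρ b (ρ b e)) = ρ b (ρ b (ρ (b⁻¹ * (b⁻¹ * r * b) * b) e)) := by
        rw [← apply_mul, ← apply_mul, ← apply_mul, ← apply_mul]; congr 2; group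
      fin_cases i
      · exact ⟨s1, hs1⟩
      · exact ⟨s2, by show ρ r (ρ b e) = s2 • ρ b e; rw [e2, hs2, map_smul]⟩
      · exact ⟨s3, by show ρ r (ρ b (ρ b e)) = s3 • ρ b (ρ b e); rw [e3, hs3, map_smul, map_smul]⟩
    · rintro ⟨i⟩; fin_cases i
      · rfl
      · rfl
      · exact h.b_three e
    · rintro d hd ⟨i⟩; fin_cases i
      exacts [hsign d hd, hEigb e hsign d hd, hEigb _ (hEigb e hsign) d hd]
    · rintro ⟨i⟩ ⟨j⟩ hij
      fin_cases i <;> fin_cases j
      all_goals first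
        | exact absurd rfl hij
        | exact ⟨u, hD.mem, Or.inl ⟨h.lines.fix, f1⟩⟩
        | exact ⟨u, hD.mem, Or.inl ⟨h.lines.fix, f2⟩⟩
        | exact ⟨u, hD.mem, Or.inr ⟨f1, h.lines.fix⟩⟩
        | exact ⟨u, hD.mem, Or.inr ⟨f2, h.lines.fix⟩⟩
        | exact ⟨v, hvD, Or.inl ⟨f3, f4⟩⟩
        | exact ⟨v, hvD, Or.inr ⟨f4, f3⟩⟩
    · rintro ⟨i⟩; fin_cases i
      exacts [⟨v, hvD, h.lines.neg⟩, ⟨u, hD.mem, f1⟩, ⟨u, hD.mem, f2⟩]
    · refine h.blk_le_wsp.trans (Submodule.span_le.2 ?_)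
      rintro x (rfl | rfl | hx)
      · exact Submodule.subset_span ⟨ULift.up 0, rfl⟩
      · exact Submodule.subset_span ⟨ULift.up 1, rfl⟩
      · rw [Set.mem_singleton_iff] at hx
        exact Submodule.subset_span ⟨ULift.up 2, hx.symm⟩
    · rw [hσ]; decide
    · rw [hσ, hσ, hσ]; decide
    · rintro ⟨i⟩ h1 h2 h3
      rw [hσ] at h2
      rw [hσ, hσ] at h3
      fin_cases i
      · exact absurd rfl h1
      · exact absurd rfl h2
      · exact absurd rfl h3
  · -- the orbit of the line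
    push Not at hA
    obtain ⟨r0, hr0, hr0e⟩ := hA
    let Δ : Type uE := {L : Submodule (ZMod 3) E // ∃ r ∈ R, L = Submodule.span (ZMod 3) {ρ r e}}
    have hmap : ∀ (g : S) (x : E), (Submodule.span (ZMod 3) {x}).map (ρ g) = Submodule.span (ZMod 3) {ρ g x} := by
      intro g x; rw [Submodule.map_span, Set.image_singleton]
    have hspan : ∀ {x y : E} {s : ZMod 3}, x ≠ 0 → x = s • y →
        Submodule.span (ZMod 3) {x} = Submodule.span (ZMod 3) {y} := by
      intro x y s hx hxy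
      have hs : s ≠ 0 := fun h0 => hx (by rw [hxy, h0, zero_smul])
      subst hxy
      exact Submodule.span_singleton_smul_eq (IsUnit.mk0 s hs) y
    have hre0 : ∀ g : S, ρ g e ≠ 0 := fun g h0 => h.lines.ne (by rw [← apply_inv_self ρ g e, h0, map_zero])
    -- `b e` lies in the orbit
    obtain ⟨r1, hr1, hbe⟩ : ∃ r1 ∈ R, Submodule.span (ZMod 3) {ρ b e} = Submodule.span (ZMod 3) {ρ r1 e} := by
      set y := ρ r0 e
      have hy := hEigR e hsign r0 hr0
      rcases h.classify (hy u hD.mem) (hy v hvD) with ⟨α, hα⟩ | ⟨α, hα⟩ | ⟨α, hα⟩ | hC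
      · exact absurd hα (hr0e α)
      · exact ⟨r0, hr0, (hspan (hre0 r0) hα).symm⟩
      · refine ⟨(b * r0 * b⁻¹)⁻¹, inv_mem (hR.conj r0 hr0), ?_⟩
        have e1 : ρ (b * r0 * b⁻¹) (ρ b e) = α • e := by
          rw [← apply_mul, inv_mul_cancel_right, apply_mul, hα, map_smul, h.b_three]
        have e2 : ρ b e = α • ρ (b * r0 * b⁻¹)⁻¹ e := by rw [← map_smul, ← e1, apply_inv_self]
        exact hspan hbe0 e2
      · refine ⟨(b * r0 * b⁻¹)⁻¹ * r0, mul_mem (inv_mem (hR.conj r0 hr0)) hr0, ?_⟩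
        have hby : ρ b y = y := h.lines.fixed y hC.1 hC.2
        have e1 : ρ (b * r0 * b⁻¹) (ρ b e) = y := by
          rw [← apply_mul, inv_mul_cancel_right, apply_mul, hby]
        have e2 : ρ b e = (1 : ZMod 3) • ρ ((b * r0 * b⁻¹)⁻¹ * r0) e := by
          rw [one_smul, apply_mul]
          change ρ b e = ρ (b * r0 * b⁻¹)⁻¹ y
          rw [← e1, apply_inv_self]
        exact hspan hbe0 e2
    -- actions
    let act : R → Δ → Δ := fun r L => ⟨L.1.map (ρ (r : S)), by
      obtain ⟨t, ht, hL⟩ := L.2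
      exact ⟨(r : S) * t, mul_mem r.2 ht, by rw [hL, hmap, apply_mul]⟩⟩
    have hact1 : ∀ L, act 1 L = L := fun L => Subtype.ext (by
      show L.1.map (ρ ((1 : R) : S)) = L.1
      rw [OneMemClass.coe_one, map_one]; exact Submodule.map_id _)
    have hactm : ∀ r r' L, act (r * r') L = act r (act r' L) := fun r r' L => Subtype.ext (by
      show L.1.map (ρ ((r * r' : R) : S)) = (L.1.map (ρ (r' : S))).map (ρ (r : S))
      rw [Subgroup.coe_mul, map_mul, ← Submodule.map_comp]; rfl)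
    let θ : R →* Equiv.Perm Δ :=
      { toFun := fun r => ⟨act r, act r⁻¹, fun L => by rw [← hactm, inv_mul_cancel, hact1],
          fun L => by rw [← hactm, mul_inv_cancel, hact1]⟩
        map_one' := Equiv.ext hact1
        map_mul' := fun r r' => Equiv.ext (hactm r r') }
    let sg : Δ → Δ := fun L => ⟨L.1.map (ρ b), by
      obtain ⟨t, ht, hL⟩ := L.2
      refine ⟨b * t * b⁻¹ * r1, mul_mem (hR.conj t ht) hr1, ?_⟩
      have e1 : ρ b (ρ t e) = ρ (b * t * b⁻¹) (ρ b e) := by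
        rw [← apply_mul, ← apply_mul, inv_mul_cancel_right]
      rw [hL, hmap, e1, ← hmap, hbe, hmap, apply_mul ρ (b * t * b⁻¹) r1]⟩
    have hsg : Function.Injective sg := fun L L' hLL => by
      refine Subtype.ext ?_
      have h1 := congrArg (fun M : Δ => (M.1.map (ρ b)).map (ρ b)) hLL
      have hid : ∀ M : Submodule (ZMod 3) E, ((M.map (ρ b)).map (ρ b)).map (ρ b) = M := fun M => by
        rw [← Submodule.map_comp, ← Submodule.map_comp]
        refine Eq.trans (congrArg (fun f => M.map f) (LinearMap.ext fun x => ?_)) (Submodule.map_id M)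
        exact h.b_three x
      simpa [sg, hid] using h1
    haveI : Finite Δ := Subtype.finite
    let σ : Equiv.Perm Δ := Equiv.ofBijective sg (Finite.injective_iff_bijective.1 hsg)
    let L1 : Δ := ⟨Submodule.span (ZMod 3) {e}, 1, one_mem R, by rw [map_one, Module.End.one_apply]⟩
    have hσ1 : (σ L1).1 = Submodule.span (ZMod 3) {ρ b e} := hmap b e
    have hσ2 : (σ (σ L1)).1 = Submodule.span (ZMod 3) {ρ b (ρ b e)} := by
      show ((σ L1).1).map (ρ b) = _
      rw [hσ1, hmap]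
    have hne12 : Submodule.span (ZMod 3) {ρ b e} ≠ Submodule.span (ZMod 3) {e} := by
      intro heq
      have hmem : ρ b e ∈ Submodule.span (ZMod 3) {e} := heq ▸ Submodule.subset_span rfl
      obtain ⟨s, hs⟩ := Submodule.mem_span_singleton.1 hmem
      have := f1
      rw [← hs, map_smul, h.lines.fix] at this
      rw [hs] at this
      exact hbe0 (eq_zero_of_eq_neg this)
    have hne13 : Submodule.span (ZMod 3) {ρ b (ρ b e)} ≠ Submodule.span (ZMod 3) {e} := by
      intro heq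
      have hmem : ρ b (ρ b e) ∈ Submodule.span (ZMod 3) {e} := heq ▸ Submodule.subset_span rfl
      obtain ⟨s, hs⟩ := Submodule.mem_span_singleton.1 hmem
      have := f2
      rw [← hs, map_smul, h.lines.fix] at this
      rw [hs] at this
      exact hbbe0 (eq_zero_of_eq_neg this)
    have hne23 : Submodule.span (ZMod 3) {ρ b (ρ b e)} ≠ Submodule.span (ZMod 3) {ρ b e} := by
      intro heq
      have hmem : ρ b (ρ b e) ∈ Submodule.span (ZMod 3) {ρ b e} := heq ▸ Submodule.subset_span rfl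
      obtain ⟨s, hs⟩ := Submodule.mem_span_singleton.1 hmem
      have := f4
      rw [← hs, map_smul, f3] at this
      rw [hs] at this
      exact hbbe0 (eq_zero_of_eq_neg this)
    let vec : Δ → E := fun L =>
      if L = L1 then e else if L = σ L1 then ρ b e else if L = σ (σ L1) then ρ b (ρ b e) else ρ L.2.choose e
    have hne1 : σ L1 ≠ L1 := fun hh => hne12 (hσ1 ▸ congrArg Subtype.val hh)
    have hne2 : σ (σ L1) ≠ L1 := fun hh => hne13 (hσ2 ▸ congrArg Subtype.val hh)
    have hne3 : σ (σ L1) ≠ σ L1 := fun hh => hne1 (σ.injective hh)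
    have hv1 : vec L1 = e := if_pos rfl
    have hv2 : vec (σ L1) = ρ b e := (if_neg hne1).trans (if_pos rfl)
    have hv3 : vec (σ (σ L1)) = ρ b (ρ b e) := (if_neg hne2).trans ((if_neg hne3).trans (if_pos rfl))
    have hvspan : ∀ L : Δ, L.1 = Submodule.span (ZMod 3) {vec L} := by
      intro L
      by_cases h1 : L = L1
      · rw [h1, hv1]
      by_cases h2 : L = σ L1
      · rw [h2, hv2, hσ1]
      by_cases h3 : L = σ (σ L1)
      · rw [h3, hv3, hσ2]
      · rw [show vec L = ρ L.2.choose e from (if_neg h1).trans ((if_neg h2).trans (if_neg h3))]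
        exact L.2.choose_spec.2
    have hvne : ∀ L, vec L ≠ 0 := by
      intro L
      simp only [vec]
      split_ifs
      exacts [h.lines.ne, hbe0, hbbe0, hre0 _]
    have hvorb : ∀ L, ∃ r ∈ R, ∃ s : ZMod 3, vec L = s • ρ r e := by
      intro L
      obtain ⟨r, hr, hL⟩ := L.2
      refine ⟨r, hr, ?_⟩
      have hmem : vec L ∈ Submodule.span (ZMod 3) {ρ r e} := hL ▸ (hvspan L).symm ▸ Submodule.subset_span rfl
      obtain ⟨s, hs⟩ := Submodule.mem_span_singleton.1 hmem
      exact ⟨s, hs.symm⟩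
    have hveig : ∀ L, Eig (vec L) := by
      intro L d hd
      obtain ⟨r, hr, s, hs⟩ := hvorb L
      rcases hEigR e hsign r hr d hd with h' | h' <;> rw [hs, map_smul, h']
      · exact Or.inl rfl
      · exact Or.inr (smul_neg _ _)
    have hσfix : ∀ L, L ≠ L1 → L ≠ σ L1 → L ≠ σ (σ L1) → ρ b (vec L) = vec L := by
      intro L h1 h2 h3
      rcases h.classify (hveig L u hD.mem) (hveig L v hvD) with ⟨α, hα⟩ | ⟨α, hα⟩ | ⟨α, hα⟩ | hC
      · exact absurd (Subtype.ext ((hvspan L).trans (hspan (hvne L) hα))) h1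
      · exact absurd (Subtype.ext ((hvspan L).trans ((hspan (hvne L) hα).trans hσ1.symm))) h2
      · exact absurd (Subtype.ext ((hvspan L).trans ((hspan (hvne L) hα).trans hσ2.symm))) h3
      · exact h.lines.fixed _ hC.1 hC.2
    have hcyc : σ (σ (σ L1)) = L1 := Subtype.ext (by
      show ((σ (σ L1)).1).map (ρ b) = _
      rw [hσ2, hmap, h.b_three])
    have hσfix' : ∀ L, L ≠ L1 → L ≠ σ L1 → L ≠ σ (σ L1) → σ L = L := fun L h1 h2 h3 => Subtype.ext (by
      show L.1.map (ρ b) = L.1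
      rw [hvspan L, hmap, hσfix L h1 h2 h3])
    let β : R →* R := ((MulAut.conj b).toMonoidHom.comp R.subtype).codRestrict R fun g => hR.conj g g.2
    have htrans : ∀ L, ∃ r, θ r L1 = L := by
      intro L
      obtain ⟨r, hr, hL⟩ := L.2
      exact ⟨⟨r, hr⟩, Subtype.ext ((hmap r e).trans hL.symm)⟩
    have hperm := perm_four hR.two θ σ β
      (fun r L => Subtype.ext (by
        show (L.1.map (ρ b)).map (ρ (b * r * b⁻¹)) = (L.1.map (ρ (r : S))).map (ρ b)
        rw [← Submodule.map_comp, ← Submodule.map_comp]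
        refine congrArg (fun f => L.1.map f) (LinearMap.ext fun x => ?_)
        show ρ (b * r * b⁻¹) (ρ b x) = ρ b (ρ (r : S) x)
        rw [← apply_mul, ← apply_mul, inv_mul_cancel_right]))
      (fun H hH => by
        refine eq_top_iff.2 fun r _ => ?_
        have hle : R ≤ H.map R.subtype := hR.le fun g hg => by
          refine ⟨_, hH ⟨g, hg⟩, ?_⟩
          show g * (b * g * b⁻¹)⁻¹ = ⁅g, b⁆
          rw [commutatorElement_def]; group
        obtain ⟨r', hr', he'⟩ := hle r.2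
        rwa [Subtype.ext he'] at hr')
      htrans hcyc hne1 hσfix'
    refine ⟨Δ, inferInstance, ⟨{
      vec := vec, θ := θ, σ := σ, a := L1
      ne := hvne, smul := ?_, bvec := ?_, diag := fun d hd L => hveig L d hd, sep := ?_, neg := ?_, moves := ?_,
      cyc_ne := hne1, cyc := hcyc, cyc_fix := hσfix', kind := Or.inr ⟨hperm.1, htrans, hperm.2.1, hperm.2.2.2⟩ }⟩⟩
    · intro r L
      have hmem : ρ (r : S) (vec L) ∈ (θ r L).1 := by
        show ρ (r : S) (vec L) ∈ L.1.map (ρ (r : S))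
        exact Submodule.mem_map_of_mem ((hvspan L).symm ▸ Submodule.subset_span rfl)
      rw [hvspan (θ r L)] at hmem
      obtain ⟨s, hs⟩ := Submodule.mem_span_singleton.1 hmem
      exact ⟨s, hs.symm⟩
    · intro L
      by_cases h1 : L = L1
      · rw [h1, hv1, hv2]
      by_cases h2 : L = σ L1
      · rw [h2, hv2, hv3]
      by_cases h3 : L = σ (σ L1)
      · rw [h3, hv3, hcyc, hv1, h.b_three]
      · rw [hσfix' L h1 h2 h3, hσfix L h1 h2 h3]
    · intro L L' hne
      by_contra hcon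
      push Not at hcon
      obtain ⟨r, hr, s, hs⟩ := hvorb L
      obtain ⟨r', hr', s', hs'⟩ := hvorb L'
      set x := ρ r'⁻¹ (vec L)
      have hxeig : ∀ d ∈ D, (ρ d e = e → ρ d x = x) ∧ (ρ d e = -e → ρ d x = -x) := by
        intro d hd
        have hd' : r' * d * r'⁻¹ ∈ D := hD.conj r' hr' d hd
        have e1 : ρ d x = ρ r'⁻¹ (ρ (r' * d * r'⁻¹) (vec L)) := by
          show ρ d (ρ r'⁻¹ (vec L)) = _
          rw [← apply_mul, ← apply_mul]; congr 2; group
        have e2 : ρ (r' * d * r'⁻¹) (vec L') = s' • ρ r' (ρ d e) := by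
          rw [hs', map_smul, ← apply_mul, inv_mul_cancel_right, apply_mul]
        refine ⟨fun he => ?_, fun he => ?_⟩
        · rw [he, ← hs'] at e2
          rcases hveig L _ hd' with h' | h'
          · rw [e1, h']
          · exact absurd e2 ((hcon _ hd').2 h')
        · rw [he, map_neg, smul_neg, ← hs'] at e2
          rcases hveig L _ hd' with h' | h'
          · exact absurd e2 ((hcon _ hd').1 h')
          · rw [e1, h', map_neg]
      obtain ⟨α, hα⟩ := h.lines.line x ((hxeig u hD.mem).1 h.lines.fix) ((hxeig v hvD).2 h.lines.neg)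
      have hvL : vec L = α • ρ r' e := by rw [← map_smul, ← hα]; exact (apply_self_inv ρ r' _).symm
      refine hne (Subtype.ext ?_)
      rw [hvspan L, hvspan L', hspan (hvne L) hvL, hspan (hvne L') hs']
    · intro L
      obtain ⟨r, hr, s, hs⟩ := hvorb L
      refine ⟨r * v * r⁻¹, hD.conj r hr v hvD, ?_⟩
      rw [hs, map_smul, ← apply_mul, inv_mul_cancel_right, apply_mul, h.lines.neg, map_neg, smul_neg]
    · refine h.blk_le_wsp.trans (Submodule.span_le.2 ?_)
      rintro x (rfl | rfl | hx)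
      · exact Submodule.subset_span ⟨L1, hv1⟩
      · exact Submodule.subset_span ⟨σ L1, hv2⟩
      · rw [Set.mem_singleton_iff] at hx
        exact Submodule.subset_span ⟨σ (σ L1), hv3.trans hx.symm⟩

end CfsgLib.FGStruct.CubicBlock
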