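import Mathlib
import Cfsg.Prelude
import Cfsg.Agent.Lib.FGStruct.CubicBlock.Frame
import Cfsg.Agent.Lib.PGroup.Basic

/-!
Structure of `R = [O, b]` from its monomial frame.
-/

set_option autoImplicit false
set_option linter.style.haveILetI false

open Module
open scoped commutatorElement

namespace CfsgLib.FGStruct.CubicBlock

universe uE

variable {S : Type*} [Group S] [Finite S] {E : Type uE} [AddCommGroup E] [Module (ZMod 3) E] [Finite E]
variable {ρ : Representation (ZMod 3) S E} {b w : S} {R D : Subgroup S} {ι : Type uE} [Fintype ι]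

namespace Frame

variable (F : Frame ρ R D b ι)

/-- The span of the frame. -/
def span₀ : Submodule (ZMod 3) E := Submodule.span (ZMod 3) (Set.range F.vec)

/-- The fixed points of `R`. -/
def fixed₁ (_F : Frame ρ R D b ι) : Submodule (ZMod 3) E where
  carrier := {x | ∀ r ∈ R, ρ r x = x}
  add_mem' := fun {x y} hx hy r hr => by rw [map_add, hx r hr, hy r hr]
  zero_mem' := fun r _ => map_zero _
  smul_mem' := fun c x hx r hr => by rw [map_smul, hx r hr]

theorem vec_mem (i : ι) : F.vec i ∈ F.span₀ := Submodule.subset_span ⟨i, rfl⟩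

theorem exists_sum {x : E} (hx : x ∈ F.span₀) : ∃ c : ι → ZMod 3, x = ∑ i, c i • F.vec i := by
  obtain ⟨c, hc⟩ := Submodule.mem_span_range_iff_exists_fun (ZMod 3) |>.1 hx
  exact ⟨c, hc.symm⟩

/-- Components along the frame. -/
theorem mem_component (N : Submodule (ZMod 3) E) (hN : ∀ d ∈ D, ∀ x ∈ N, ρ d x ∈ N) :
    ∀ (n : ℕ) (c : ι → ZMod 3), (Finset.univ.filter fun i => c i ≠ 0).card = n →
      (∑ i, c i • F.vec i) ∈ N → ∀ i, c i • F.vec i ∈ N := by
  classical
  intro n
  induction n using Nat.strong_induction_on with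
  | _ n ih =>
  intro c hn hc i
  by_cases hi : c i = 0
  · rw [hi, zero_smul]; exact zero_mem N
  by_cases hall : ∀ j, j ≠ i → c j = 0
  · rw [Finset.sum_eq_single i (fun j _ hj => by rw [hall j hj, zero_smul]) (by simp)] at hc
    exact hc
  push Not at hall
  obtain ⟨j, hji, hj⟩ := hall
  obtain ⟨d, hd, hsep⟩ := F.sep i j (Ne.symm hji)
  let P : ι → Prop := fun k => ρ d (F.vec k) = F.vec k
  let cp : ι → ZMod 3 := fun k => if P k then c k else 0
  let cm : ι → ZMod 3 := fun k => if P k then 0 else c k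
  have hadd : ∑ k, c k • F.vec k = (∑ k, cp k • F.vec k) + ∑ k, cm k • F.vec k := by
    rw [← Finset.sum_add_distrib]
    refine Finset.sum_congr rfl fun k _ => ?_
    by_cases hk : P k <;> simp [cp, cm, hk]
  have hd' : ρ d (∑ k, c k • F.vec k) = (∑ k, cp k • F.vec k) - ∑ k, cm k • F.vec k := by
    rw [map_sum, ← Finset.sum_sub_distrib]
    refine Finset.sum_congr rfl fun k _ => ?_
    by_cases hk : P k
    · simp [cp, cm, hk, show ρ d (F.vec k) = F.vec k from hk]
    · simp [cp, cm, hk, (F.diag d hd k).resolve_left hk]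
  have hp : (∑ k, cp k • F.vec k) ∈ N := by
    have h1 := N.neg_mem (N.add_mem hc (hN d hd _ hc))
    have e1 : -((∑ k, c k • F.vec k) + ρ d (∑ k, c k • F.vec k)) = ∑ k, cp k • F.vec k := by
      rw [hd', hadd, show ∀ p m : E, p + m + (p - m) = p + p from fun p m => by abel, two_smul_self, neg_neg]
    rwa [e1] at h1
  have hm : (∑ k, cm k • F.vec k) ∈ N := by
    have h1 := N.sub_mem hc hp
    rwa [hadd, add_sub_cancel_left] at h1
  have hcard : ∀ c' : ι → ZMod 3, (∀ k, c' k ≠ 0 → c k ≠ 0) → (∃ k, c k ≠ 0 ∧ c' k = 0) →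
      (Finset.univ.filter fun k => c' k ≠ 0).card < n := by
    intro c' hsub ⟨k, hk, hk'⟩
    rw [← hn]
    refine Finset.card_lt_card ((Finset.ssubset_iff_of_subset fun l hl => ?_).2 ⟨k, ?_, ?_⟩)
    · simp only [Finset.mem_filter, Finset.mem_univ, true_and] at hl ⊢; exact hsub l hl
    · simpa using hk
    · simpa using hk'
  have hcp : ∀ k, cp k ≠ 0 → c k ≠ 0 := fun k hk h0 => hk (by simp [cp, h0])
  have hcm : ∀ k, cm k ≠ 0 → c k ≠ 0 := fun k hk h0 => hk (by simp [cm, h0])
  rcases hsep with ⟨h1, h2⟩ | ⟨h1, h2⟩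
  · have hPj : ¬ P j := fun hP => F.ne j (eq_zero_of_eq_neg ((hP : ρ d _ = _).symm.trans h2))
    have := ih _ (hcard cp hcp ⟨j, hj, if_neg hPj⟩) cp rfl hp i
    rwa [show cp i = c i from if_pos h1] at this
  · have hPi : ¬ P i := fun hP => F.ne i (eq_zero_of_eq_neg ((hP : ρ d _ = _).symm.trans h1))
    have := ih _ (hcard cm hcm ⟨j, hj, if_pos h2⟩) cm rfl hm i
    rwa [show cm i = c i from if_neg hPi] at this

theorem eq_zero_of_sum {c : ι → ZMod 3} (h : ∑ i, c i • F.vec i = 0) (i : ι) : c i = 0 := by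
  classical
  have h1 := F.mem_component ⊥ (fun d _ x hx => by rw [Submodule.mem_bot] at hx ⊢; rw [hx, map_zero]) _ c rfl
    ((Submodule.mem_bot _).2 h) i
  rw [Submodule.mem_bot, smul_eq_zero] at h1
  exact h1.resolve_right (F.ne i)

theorem eq_of_smul_eq {s t : ZMod 3} {i j : ι} (hs : s ≠ 0) (h : s • F.vec i = t • F.vec j) : i = j := by
  classical
  by_contra hij
  have h1 := F.eq_zero_of_sum (c := Pi.single i s - Pi.single j t) (by
    simp [sub_smul, Pi.single_apply, ite_smul, h]) i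
  simp [hij] at h1
  exact hs h1

theorem eq_of_smul_eq' {s t : ZMod 3} {i : ι} (h : s • F.vec i = t • F.vec i) : s = t := by
  by_contra hst
  refine F.ne i ((smul_eq_zero.1 (?_ : (s - t) • F.vec i = 0)).resolve_left (sub_ne_zero.2 hst))
  rw [sub_smul, h, sub_self]

theorem map_span₀ {g : S} (hg : ∀ i, ∃ (s : ZMod 3) (j : ι), ρ g (F.vec i) = s • F.vec j) :
    ∀ x ∈ F.span₀, ρ g x ∈ F.span₀ := by
  intro x hx
  obtain ⟨c, rfl⟩ := F.exists_sum hx
  rw [map_sum]
  refine Submodule.sum_mem _ fun i _ => ?_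
  obtain ⟨s, j, hs⟩ := hg i
  rw [map_smul, hs]
  exact Submodule.smul_mem _ _ (Submodule.smul_mem _ _ (F.vec_mem j))

theorem map_span₀_R {r : S} (hr : r ∈ R) : ∀ x ∈ F.span₀, ρ r x ∈ F.span₀ :=
  F.map_span₀ fun i => by obtain ⟨s, hs⟩ := F.smul ⟨r, hr⟩ i; exact ⟨s, _, hs⟩

theorem map_span₀_b : ∀ x ∈ F.span₀, ρ b x ∈ F.span₀ :=
  F.map_span₀ fun i => ⟨1, F.σ i, by rw [one_smul, F.bvec]⟩

theorem le_movesIn (hR : RData R b) : R ≤ movesIn ρ F.span₀ := hR.le fun g hg => by
  rw [commutatorElement_def]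
  refine mul_mem (movesIn_mono ρ ?_ (conj_mem_movesIn ρ g b)) (inv_mem (movesIn_mono ρ F.moves (mem_movesIn_blk ρ b)))
  rintro _ ⟨x, hx, rfl⟩
  exact F.map_span₀_R hg x (F.moves hx)

theorem sup_eq_top (hR : RData R b) : F.span₀ ⊔ F.fixed₁ = ⊤ := by
  classical
  haveI : Fintype R := Fintype.ofFinite R
  haveI : Fact (Nat.Prime 3) := ⟨Nat.prime_three⟩
  rw [eq_top_iff]
  intro x _
  set n : ZMod 3 := Nat.cast (Fintype.card R) with hn
  have hn0 : n ≠ 0 := by
    rw [hn, Ne, ZMod.natCast_eq_zero_iff, ← Nat.card_eq_fintype_card]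
    obtain ⟨k, hk⟩ := IsPGroup.iff_card.1 hR.two
    rw [hk]
    exact fun hd => absurd ((Nat.prime_dvd_prime_iff_eq Nat.prime_three Nat.prime_two).1
      (Nat.prime_three.dvd_of_dvd_pow hd)) (by norm_num)
  set P := ∑ r : R, ρ (r : S) x
  have hP : n⁻¹ • P ∈ F.fixed₁ := by
    intro r hr
    rw [map_smul, map_sum]
    congr 1
    exact Fintype.sum_equiv (Equiv.mulLeft (⟨r, hr⟩ : R)) _ _ fun t => (apply_mul ρ r (t : S) x).symm
  have hQ : x - n⁻¹ • P ∈ F.span₀ := by
    have e1 : x - n⁻¹ • P = n⁻¹ • ∑ r : R, (x - ρ (r : S) x) := by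
      rw [Finset.sum_sub_distrib, Finset.sum_const, Finset.card_univ, ← Nat.cast_smul_eq_nsmul (ZMod 3), ← hn,
        smul_sub, smul_smul, inv_mul_cancel₀ hn0, one_smul]
    rw [e1]
    refine Submodule.smul_mem _ _ (Submodule.sum_mem _ fun r _ => ?_)
    rw [← neg_sub]
    exact Submodule.neg_mem _ (F.le_movesIn hR r.2 x)
  rw [← sub_add_cancel x (n⁻¹ • P)]
  exact add_mem (Submodule.mem_sup_left hQ) (Submodule.mem_sup_right hP)

theorem inf_eq_bot (hD : D ≤ R) : F.span₀ ⊓ F.fixed₁ = ⊥ := by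
  rw [eq_bot_iff]
  rintro x ⟨hx, hfx⟩
  obtain ⟨c, rfl⟩ := F.exists_sum hx
  rw [Submodule.mem_bot]
  refine Finset.sum_eq_zero fun i _ => ?_
  obtain ⟨d, hd, hdi⟩ := F.neg i
  have hfd : ρ d (∑ k, c k • F.vec k) = ∑ k, c k • F.vec k := hfx d (hD hd)
  choose s hs using fun k => (show ∃ s : ZMod 3, ρ d (F.vec k) = s • F.vec k from
    (F.diag d hd k).elim (fun h => ⟨1, by rw [h, one_smul]⟩) (fun h => ⟨-1, by rw [h, neg_one_smul]⟩))
  have h0 : ∑ k, (c k * s k - c k) • F.vec k = 0 := by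
    simp only [sub_smul, Finset.sum_sub_distrib, mul_smul, ← hs, ← map_smul, ← map_sum, hfd, sub_self]
  have hsi : s i = -1 := F.eq_of_smul_eq' (by rw [← hs, hdi, neg_one_smul])
  have h2 := F.eq_zero_of_sum h0 i
  rw [hsi] at h2
  have key : ∀ a : ZMod 3, a * -1 - a = 0 → a = 0 := by decide
  rw [key _ h2, zero_smul]

theorem ext_vec (hR : RData R b) {r : S} (hr : r ∈ R) (hρ : Function.Injective ρ)
    (h : ∀ i, ρ r (F.vec i) = F.vec i) : r = 1 := by
  refine hρ (LinearMap.ext fun x => ?_)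
  rw [map_one, Module.End.one_apply]
  have hx : x ∈ F.span₀ ⊔ F.fixed₁ := F.sup_eq_top hR ▸ Submodule.mem_top
  obtain ⟨y, hy, z, hz, rfl⟩ := Submodule.mem_sup.1 hx
  obtain ⟨c, rfl⟩ := F.exists_sum hy
  rw [map_add, hz r hr, map_sum]
  simp only [map_smul, h]

/-- The scalar. -/
noncomputable def sc (r : R) (i : ι) : (ZMod 3)ˣ :=
  haveI : Fact (Nat.Prime 3) := ⟨Nat.prime_three⟩
  Units.mk0 (F.smul r i).choose fun h0 => F.ne i (by
    have h := (F.smul r i).choose_spec
    rw [h0, zero_smul] at h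
    rw [← apply_inv_self ρ (r : S) (F.vec i), h, map_zero])

theorem sc_spec (r : R) (i : ι) : ρ (r : S) (F.vec i) = ((F.sc r i : (ZMod 3)ˣ) : ZMod 3) • F.vec (F.θ r i) :=
  (F.smul r i).choose_spec

theorem θ_eq {r : R} {i j : ι} {s : ZMod 3} (h : ρ (r : S) (F.vec i) = s • F.vec j) : F.θ r i = j :=
  F.eq_of_smul_eq (Units.ne_zero _) ((F.sc_spec r i).symm.trans h)

theorem sc_eq {r : R} {i : ι} {s : ZMod 3} {j : ι} (h : ρ (r : S) (F.vec i) = s • F.vec j) :
    ((F.sc r i : (ZMod 3)ˣ) : ZMod 3) = s := by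
  obtain rfl := F.θ_eq h
  exact F.eq_of_smul_eq' ((F.sc_spec r i).symm.trans h)

theorem sc_mul (r r' : R) (i : ι) : F.sc (r * r') i = F.sc r (F.θ r' i) * F.sc r' i := by
  refine Units.ext (F.sc_eq (j := F.θ r (F.θ r' i)) ?_)
  rw [Subgroup.coe_mul, apply_mul, F.sc_spec r' i, map_smul, F.sc_spec, smul_smul, Units.val_mul, mul_comm]

theorem prod_sc (hR : RData R b) (r : R) : ∏ i, F.sc r i = 1 := by
  classical
  let δ : R →* (ZMod 3)ˣ :=
    { toFun := fun r => ∏ i, F.sc r i
      map_one' := Finset.prod_eq_one fun i _ => Units.ext (F.sc_eq (j := i) (by simp))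
      map_mul' := fun r r' => by
        rw [Finset.prod_congr rfl fun i _ => F.sc_mul r r' i, Finset.prod_mul_distrib,
          Equiv.prod_comp (F.θ r') (fun i => F.sc r i)] }
  have hβ : ∀ t : R, δ ⟨b * t * b⁻¹, hR.conj t t.2⟩ = δ t := by
    intro t
    show ∏ i, F.sc _ i = ∏ i, F.sc t i
    rw [← Equiv.prod_comp F.σ (fun i => F.sc ⟨b * t * b⁻¹, hR.conj t t.2⟩ i)]
    refine Finset.prod_congr rfl fun i _ => Units.ext (F.sc_eq (j := F.σ (F.θ t i)) ?_)
    show ρ (b * t * b⁻¹) _ = _
    rw [← F.bvec, ← apply_mul, inv_mul_cancel_right, apply_mul, F.sc_spec, map_smul, F.bvec]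
  have hker : R ≤ δ.ker.map R.subtype := hR.le fun g hg => by
    refine ⟨⟨g, hg⟩ * ⟨b * g * b⁻¹, hR.conj g hg⟩⁻¹, ?_, ?_⟩
    · rw [SetLike.mem_coe, MonoidHom.mem_ker, map_mul, map_inv, hβ ⟨g, hg⟩, mul_inv_cancel]
    · show g * (b * g * b⁻¹)⁻¹ = ⁅g, b⁆
      rw [commutatorElement_def]; group
  obtain ⟨r', hr', he⟩ := hker r.2
  obtain rfl : r' = r := Subtype.ext he
  exact hr'

theorem θ_D (hDR : D ≤ R) {d : S} (hd : d ∈ D) (i : ι) : F.θ ⟨d, hDR hd⟩ i = i := by
  rcases F.diag d hd i with h | h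
  · exact F.θ_eq (s := 1) (by rw [one_smul]; exact h)
  · exact F.θ_eq (s := -1) (by rw [neg_one_smul]; exact h)

theorem exists_trans (i : ι) : ∃ (g : S) (s : ZMod 3), g ∈ R ⊔ Subgroup.zpowers b ∧ ρ g (F.vec F.a) = s • F.vec i := by
  rcases F.kind with ⟨h3, -⟩ | ⟨-, htr, -, -⟩
  · have hb : ∀ k : ℕ, b ^ k ∈ R ⊔ Subgroup.zpowers b := fun k => Subgroup.mem_sup_right (pow_mem (Subgroup.mem_zpowers b) k)
    by_cases h1 : i = F.a
    · exact ⟨1, 1, one_mem _, by rw [h1, map_one, Module.End.one_apply, one_smul]⟩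
    by_cases h2 : i = F.σ F.a
    · exact ⟨b ^ 1, 1, hb 1, by rw [h2, pow_one, F.bvec, one_smul]⟩
    refine ⟨b ^ 2, 1, hb 2, ?_⟩
    rw [pow_two, apply_mul, F.bvec, F.bvec, one_smul]
    congr 1
    classical
    by_contra h4
    have hsub : ({F.a, F.σ F.a, F.σ (F.σ F.a), i} : Finset ι).card = 4 := by
      have n1 : F.a ≠ F.σ F.a := Ne.symm F.cyc_ne
      have n2 : F.a ≠ F.σ (F.σ F.a) := fun h => F.cyc_ne ((congrArg F.σ h).trans F.cyc)
      have n3 : F.σ F.a ≠ F.σ (F.σ F.a) := fun h => n1 (F.σ.injective h)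
      rw [Finset.card_insert_of_notMem (by simp [n1, n2, Ne.symm h1]),
        Finset.card_insert_of_notMem (by simp [n3, Ne.symm h2]),
        Finset.card_insert_of_notMem (by simpa using h4), Finset.card_singleton]
    have := Finset.card_le_univ ({F.a, F.σ F.a, F.σ (F.σ F.a), i} : Finset ι)
    rw [hsub, ← Nat.card_eq_fintype_card, h3] at this
    omega
  · obtain ⟨r, hr⟩ := htr i
    exact ⟨r, _, Subgroup.mem_sup_left r.2, by rw [F.sc_spec r F.a, hr]⟩

theorem irreducible (hR : RData R b) (hDR : D ≤ R) (N : Submodule (ZMod 3) E) (hN : N ≤ F.span₀)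
    (hinv : ∀ r ∈ R ⊔ Subgroup.zpowers b, ∀ x ∈ N, ρ r x ∈ N) : N = ⊥ ∨ N = F.span₀ := by
  classical
  by_cases hbot : N = ⊥
  · exact Or.inl hbot
  right
  obtain ⟨x, hx, hx0⟩ := Submodule.exists_mem_ne_zero_of_ne_bot hbot
  obtain ⟨c, rfl⟩ := F.exists_sum (hN hx)
  obtain ⟨i, -, hi⟩ := Finset.exists_ne_zero_of_sum_ne_zero hx0
  have hci := F.mem_component N (fun d hd => hinv d (Subgroup.mem_sup_left (hDR hd))) _ c rfl hx i
  have hc0 : c i ≠ 0 := fun h0 => hi (by rw [h0, zero_smul])
  haveI : Fact (Nat.Prime 3) := ⟨Nat.prime_three⟩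
  have hvi : F.vec i ∈ N := by
    have := N.smul_mem (c i)⁻¹ hci
    rwa [smul_smul, inv_mul_cancel₀ hc0, one_smul] at this
  obtain ⟨g, s, hg, hgs⟩ := F.exists_trans i
  have hs : s ≠ 0 := fun h0 => F.ne F.a (by
    rw [h0, zero_smul] at hgs
    rw [← apply_inv_self ρ g (F.vec F.a), hgs, map_zero])
  have hva : F.vec F.a ∈ N := by
    rw [← apply_inv_self ρ g (F.vec F.a), hgs, map_smul]
    exact N.smul_mem _ (hinv _ (inv_mem hg) _ hvi)
  refine le_antisymm hN (Submodule.span_le.2 ?_)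
  rintro _ ⟨j, rfl⟩
  obtain ⟨g', s', hg', hgs'⟩ := F.exists_trans j
  have hs' : s' ≠ 0 := fun h0 => F.ne F.a (by
    rw [h0, zero_smul] at hgs'
    rw [← apply_inv_self ρ g' (F.vec F.a), hgs', map_zero])
  have := N.smul_mem s'⁻¹ (hgs' ▸ hinv _ hg' _ hva)
  rwa [smul_smul, inv_mul_cancel₀ hs', one_smul] at this

theorem faithful (hR : RData R b) (hρ : Function.Injective ρ) {g : S} (hg : g ∈ R ⊔ Subgroup.zpowers b)
    (hfix : ∀ x ∈ F.span₀, ρ g x = x) : g = 1 := by
  classical
  have hn : Subgroup.zpowers b ≤ Subgroup.normalizer (R : Set S) := by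
    rw [Subgroup.zpowers_le]
    refine Subgroup.mem_normalizer_iff_map_conj_eq.2 (Subgroup.eq_of_le_of_card_ge ?_
      (le_of_eq (Subgroup.card_map_of_injective (MulAut.conj b).injective).symm))
    rintro _ ⟨r, hr, rfl⟩
    exact hR.conj r hr
  obtain ⟨r, hr, k, hk, rfl⟩ := (CfsgLib.Solvable.mem_sup_of_le_normalizer hn).mp hg
  obtain ⟨n, hn'⟩ := (mem_powers_iff_mem_zpowers.2 hk : k ∈ Submonoid.powers b)
  simp only at hn'
  have hk3 : k = b ^ (n % 3) := by rw [← hn', ← pow_eq_pow_mod n hR.cube]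
  have hstep : ∀ i, ρ r (ρ k (F.vec i)) = F.vec i := fun i => by
    rw [← apply_mul]; exact hfix _ (F.vec_mem i)
  have hk1 : k = 1 := by
    by_contra hk1
    -- a fixed index of the cycle forces `r` to fix an index
    have key : ∃ j ≠ F.a, ρ k (F.vec F.a) = F.vec j ∧ ∀ o, F.σ o = o → ρ k (F.vec o) = F.vec o := by
      have hlt := Nat.mod_lt n (show 3 > 0 by norm_num)
      interval_cases hm : n % 3
      · exact absurd (by rw [hk3, pow_zero]) hk1
      · exact ⟨_, F.cyc_ne, by rw [hk3, pow_one, F.bvec], fun o ho => by rw [hk3, pow_one, F.bvec, ho]⟩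
      · exact ⟨_, fun h => F.cyc_ne ((congrArg F.σ h).symm.trans F.cyc),
          by rw [hk3, pow_two, apply_mul, F.bvec, F.bvec],
          fun o ho => by rw [hk3, pow_two, apply_mul, F.bvec, ho, F.bvec, ho]⟩
    obtain ⟨j, hja, hkj, hko⟩ := key
    have hθj : F.θ ⟨r, hr⟩ j = F.a :=
      F.θ_eq (s := 1) (by rw [one_smul]; have := hstep F.a; rwa [hkj] at this)
    rcases F.kind with ⟨-, h1⟩ | ⟨h4, -, -, hfree⟩
    · exact hja ((h1 _ j).symm.trans hθj)
    · obtain ⟨o, ho1, ho2, ho3⟩ : ∃ o, o ≠ F.a ∧ o ≠ F.σ F.a ∧ o ≠ F.σ (F.σ F.a) := by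
        by_contra h
        push Not at h
        have hsub : (Finset.univ : Finset ι) ⊆ {F.a, F.σ F.a, F.σ (F.σ F.a)} := fun x _ => by
          simp only [Finset.mem_insert, Finset.mem_singleton]
          by_cases hx1 : x = F.a
          · exact Or.inl hx1
          by_cases hx2 : x = F.σ F.a
          · exact Or.inr (Or.inl hx2)
          · exact Or.inr (Or.inr (h x hx1 hx2))
        have := (Finset.card_le_card hsub).trans Finset.card_le_three
        rw [Finset.card_univ, ← Nat.card_eq_fintype_card, h4] at this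
        omega
      have hθo : F.θ ⟨r, hr⟩ o = o := F.θ_eq (s := 1) (by
        rw [one_smul]
        have := hstep o
        rwa [hko o (F.cyc_fix o ho1 ho2 ho3)] at this)
      rw [hfree _ o hθo, Equiv.Perm.one_apply] at hθj
      exact hja hθj
  rw [hk1, mul_one]
  refine F.ext_vec hR hr hρ fun i => ?_
  have := hstep i
  rwa [hk1, map_one, Module.End.one_apply] at this

theorem card_le_of_inj {K : Type*} [Finite K] (f : K → ι → (ZMod 3)ˣ) (hf : Function.Injective f)
    (hprod : ∀ k, ∏ i, f k i = 1) (a : ι) : Nat.card K ≤ 2 ^ (Fintype.card ι - 1) := by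
  classical
  have hinj : Function.Injective (fun k (i : {i : ι // i ≠ a}) => f k i) := by
    intro k k' h
    refine hf (funext fun i => ?_)
    by_cases hi : i = a
    · have h1 := hprod k
      have h2 := hprod k'
      rw [← Finset.mul_prod_erase _ _ (Finset.mem_univ a)] at h1 h2
      have h3 : ∏ x ∈ Finset.univ.erase a, f k x = ∏ x ∈ Finset.univ.erase a, f k' x :=
        Finset.prod_congr rfl fun x hx => congrFun h ⟨x, Finset.ne_of_mem_erase hx⟩
      rw [h3, ← h2] at h1
      rw [hi]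
      exact mul_right_cancel h1
    · exact congrFun h ⟨i, hi⟩
  refine (Nat.card_le_card_of_injective _ hinj).trans (le_of_eq ?_)
  have hu : Fintype.card (ZMod 3)ˣ = 2 := by decide
  rw [Nat.card_eq_fintype_card, Fintype.card_fun, hu, Fintype.card_subtype_compl, Fintype.card_subtype_eq]

/-- Three lines: `R` is the four-group. -/
theorem elementary_of_three (hR : RData R b) (hρ : Function.Injective ρ) {u : S} (hu : Four b u) (huR : u ∈ R)
    (h3 : Nat.card ι = 3) (hθ : ∀ r i, F.θ r i = i) : Cfsg.IsElementaryAbelian 2 R ∧ Nat.card R = 4 := by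
  classical
  let ψ : R →* (ι → (ZMod 3)ˣ) :=
    { toFun := fun r i => F.sc r i
      map_one' := funext fun i => Units.ext (F.sc_eq (j := i) (by simp))
      map_mul' := fun r r' => funext fun i => by rw [Pi.mul_apply, F.sc_mul, hθ] }
  have hψ : Function.Injective ψ := (injective_iff_map_eq_one ψ).2 fun r hr => Subtype.ext (F.ext_vec hR r.2 hρ fun i => by
    have h1 : F.sc r i = 1 := congrFun hr i
    rw [F.sc_spec, h1, hθ, Units.val_one, one_smul])
  refine ⟨⟨⟨⟨fun x y => hψ (by rw [map_mul, map_mul, mul_comm])⟩⟩, fun x hx => ?_⟩, le_antisymm ?_ ?_⟩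
  · have hu2 : ∀ z : (ZMod 3)ˣ, z ^ 2 = 1 := by decide
    have h1 : ψ (⟨x, hx⟩ ^ 2) = ψ 1 := by
      rw [map_pow, map_one]; exact funext fun i => hu2 _
    exact congrArg Subtype.val (hψ h1)
  · refine (card_le_of_inj (fun r : R => ψ r) hψ (F.prod_sc hR) F.a).trans (le_of_eq ?_)
    rw [← Nat.card_eq_fintype_card, h3]; norm_num
  · set v := b * u * b⁻¹ with hv
    have hvR : v ∈ R := hR.conj u huR
    have n1 : u ≠ v := fun h => hu.ne (by
      have h1 := hu.rot
      rw [← hv, ← h, hu.sq, hv, ← h] at *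
      first
        | exact h
        | exact conj_eq_one_iff.1 h1)
    have hv1 : v ≠ 1 := fun h => hu.ne (conj_eq_one_iff.1 h)
    have hfin : Finset.card ({1, ⟨u, huR⟩, ⟨v, hvR⟩, ⟨u * v, mul_mem huR hvR⟩} : Finset R) = 4 := by
      have huv : u * v ≠ 1 := fun h => n1 ((eq_inv_of_mul_eq_one_right h).trans
        (inv_eq_of_mul_eq_one_left hu.sq)).symm
      rw [Finset.card_insert_of_notMem (by
          simp only [Finset.mem_insert, Finset.mem_singleton, Subtype.ext_iff, OneMemClass.coe_one]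
          rintro (h | h | h)
          · exact hu.ne h.symm
          · exact hv1 h.symm
          · exact huv h.symm),
        Finset.card_insert_of_notMem (by
          simp only [Finset.mem_insert, Finset.mem_singleton, Subtype.ext_iff]
          rintro (h | h)
          · exact n1 h
          · exact hv1 (by simpa using h.symm)),
        Finset.card_insert_of_notMem (by
          simp only [Finset.mem_singleton, Subtype.ext_iff]
          intro h
          exact hu.ne (by simpa using h.symm)), Finset.card_singleton]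
    haveI : Fintype R := Fintype.ofFinite R
    rw [Nat.card_eq_fintype_card, ← hfin]
    exact Finset.card_le_univ _

/-- Four lines: `R` is extraspecial of order thirty-two. -/
theorem extraspecial_of_four (hR : RData R b) (hρ : Function.Injective ρ) (hD : Elem R D b w)
    (h4 : Nat.card ι = 4) (htrans : ∀ i, ∃ r, F.θ r F.a = i) (hsq : ∀ r i, F.θ (r * r) i = i)
    (hfree : ∀ r i, F.θ r i = i → F.θ r = 1) :
    Cfsg.IsExtraspecial 2 R ∧ Nat.card R = 32 ∧
      ∃ A : Subgroup S, A ≤ R ∧ Cfsg.IsElementaryAbelian 2 A ∧ Nat.card A = 8 := by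
  classical
  haveI : Fact (Nat.Prime 2) := ⟨Nat.prime_two⟩
  set K0 := F.θ.ker with hK0
  have hK0i : ∀ {r : R}, r ∈ K0 → ∀ i, F.θ r i = i := fun hr i => by
    rw [MonoidHom.mem_ker.1 hr]; rfl
  let ψ : K0 →* (ι → (ZMod 3)ˣ) :=
    { toFun := fun r i => F.sc r i
      map_one' := funext fun i => Units.ext (F.sc_eq (j := i) (by simp))
      map_mul' := fun r r' => funext fun i => by
        rw [Pi.mul_apply, Subgroup.coe_mul, F.sc_mul, hK0i r'.2] }
  have hψ : Function.Injective ψ := (injective_iff_map_eq_one ψ).2 fun r hr =>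
    Subtype.ext (Subtype.ext (F.ext_vec hR (r : R).2 hρ fun i => by
      have h1 : F.sc r i = 1 := congrFun hr i
      rw [F.sc_spec, h1, hK0i r.2, Units.val_one, one_smul]))
  have hKle : Nat.card K0 ≤ 8 := by
    refine (card_le_of_inj (fun r : K0 => ψ r) hψ (fun r => F.prod_sc hR r) F.a).trans (le_of_eq ?_)
    rw [← Nat.card_eq_fintype_card, h4]; norm_num
  -- the fixed index
  obtain ⟨o, ho1, ho2, ho3⟩ : ∃ o, o ≠ F.a ∧ o ≠ F.σ F.a ∧ o ≠ F.σ (F.σ F.a) := by
    by_contra h
    push Not at h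
    have hsub : (Finset.univ : Finset ι) ⊆ {F.a, F.σ F.a, F.σ (F.σ F.a)} := fun x _ => by
      simp only [Finset.mem_insert, Finset.mem_singleton]
      by_cases hx1 : x = F.a
      · exact Or.inl hx1
      by_cases hx2 : x = F.σ F.a
      · exact Or.inr (Or.inl hx2)
      · exact Or.inr (Or.inr (h x hx1 hx2))
    have := (Finset.card_le_card hsub).trans Finset.card_le_three
    rw [Finset.card_univ, ← Nat.card_eq_fintype_card, h4] at this
    omega
  have hbo : ρ b (F.vec o) = F.vec o := by rw [F.bvec, F.cyc_fix o ho1 ho2 ho3]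
  set v := b * w * b⁻¹ with hv
  have hvD : v ∈ D := hD.conjb w hD.mem
  have hwo : ρ w (F.vec o) = F.vec o ∧ ρ v (F.vec o) = F.vec o := by
    have hbi : ρ b⁻¹ (F.vec o) = F.vec o := by nth_rw 1 [← hbo]; rw [apply_inv_self]
    have e1 : ∀ g : S, ∀ y, ρ g (F.vec o) = y → ρ (b * g * b⁻¹) (F.vec o) = ρ b y := fun g y hy => by
      rw [apply_mul, apply_mul, hbi, hy]
    rcases F.diag w hD.mem o with h | h
    · exact ⟨h, (e1 w _ h).trans hbo⟩
    · exfalso
      have hv' : ρ v (F.vec o) = -F.vec o := by rw [hv, e1 w _ h, map_neg, hbo]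
      have h2 : ρ (b * v * b⁻¹) (F.vec o) = -F.vec o := by rw [e1 v _ hv', map_neg, hbo]
      rw [hv, hD.four.rot, ← hv, apply_mul, hv', map_neg, h, neg_neg] at h2
      exact F.ne o (eq_zero_of_eq_neg h2)
  obtain ⟨d0, hd0, hd0o⟩ := F.neg o
  have hDK : ∀ d (hd : d ∈ D), (⟨d, hD.le hd⟩ : R) ∈ K0 := fun d hd =>
    MonoidHom.mem_ker.2 (Equiv.ext fun i => F.θ_D hD.le hd i)
  have hKge : 4 < Nat.card K0 := by
    haveI : Fintype K0 := Fintype.ofFinite K0
    have hwv : w * v ∈ D := mul_mem hD.mem hvD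
    let k : ∀ d, d ∈ D → K0 := fun d hd => ⟨⟨d, hD.le hd⟩, hDK d hd⟩
    have n1 : w ≠ v := fun h => hD.four.ne (by
      have h1 := hD.four.rot
      rw [← hv, ← h, hD.four.sq] at h1
      exact conj_eq_one_iff.1 h1)
    have hv1 : v ≠ 1 := fun h => hD.four.ne (conj_eq_one_iff.1 h)
    have huv : w * v ≠ 1 := fun h => n1 ((eq_inv_of_mul_eq_one_right h).trans
      (inv_eq_of_mul_eq_one_left hD.four.sq)).symm
    have hno : ∀ d ∈ ({1, w, v, w * v} : Set S), ρ d (F.vec o) = F.vec o := by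
      rintro d (rfl | rfl | rfl | hd)
      · rw [map_one, Module.End.one_apply]
      · exact hwo.1
      · exact hwo.2
      · rw [Set.mem_singleton_iff.1 hd, apply_mul, hwo.2, hwo.1]
    have hd0n : ∀ d ∈ ({1, w, v, w * v} : Set S), d0 ≠ d := fun d hd h =>
      F.ne o (eq_zero_of_eq_neg ((hno d hd).symm.trans (h ▸ hd0o)))
    have hfin : Finset.card ({k d0 hd0, k 1 (one_mem D), k w hD.mem, k v hvD, k (w * v) hwv} : Finset K0) = 5 := by
      rw [Finset.card_insert_of_notMem (by
          simp only [Finset.mem_insert, Finset.mem_singleton, k, Subtype.ext_iff]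
          rintro (h | h | h | h)
          · exact hd0n 1 (by simp) h
          · exact hd0n w (by simp) h
          · exact hd0n v (by simp) h
          · exact hd0n (w * v) (by simp) h),
        Finset.card_insert_of_notMem (by
          simp only [Finset.mem_insert, Finset.mem_singleton, k, Subtype.ext_iff]
          rintro (h | h | h)
          · exact hD.four.ne h.symm
          · exact hv1 h.symm
          · exact huv h.symm),
        Finset.card_insert_of_notMem (by
          simp only [Finset.mem_insert, Finset.mem_singleton, k, Subtype.ext_iff]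
          rintro (h | h)
          · exact n1 h
          · exact hv1 (by simpa using h.symm)),
        Finset.card_insert_of_notMem (by
          simp only [Finset.mem_singleton, k, Subtype.ext_iff]
          intro h
          exact hD.four.ne (by simpa using h.symm)), Finset.card_singleton]
    rw [Nat.card_eq_fintype_card]
    have := Finset.card_le_univ ({k d0 hd0, k 1 (one_mem D), k w hD.mem, k v hvD, k (w * v) hwv} : Finset K0)
    omega
  obtain ⟨m, hm⟩ := IsPGroup.iff_card.1 (hR.two.to_subgroup K0)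
  have hK8 : Nat.card K0 = 8 := by
    have h1 : 2 < m := (Nat.pow_lt_pow_iff_right (by norm_num : 1 < 2)).1 (show 2 ^ 2 < 2 ^ m by rw [← hm]; exact hKge)
    have h2 : 2 ^ m ≤ 2 ^ 3 := by rw [← hm]; exact hKle
    have h3 := (Nat.pow_le_pow_iff_right (by norm_num : 1 < 2)).1 h2
    obtain rfl : m = 3 := by omega
    rw [hm]; norm_num
  have hidx : K0.index = 4 := by
    rw [hK0, Subgroup.index_ker]
    have e : F.θ.range ≃ ι := Equiv.ofBijective (fun g => (g : Equiv.Perm ι) F.a) ⟨fun g g' h => by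
      obtain ⟨_, r, rfl⟩ := g
      obtain ⟨_, r', rfl⟩ := g'
      refine Subtype.ext ?_
      have h1 : F.θ (r'⁻¹ * r) F.a = F.a := by
        rw [map_mul, Equiv.Perm.mul_apply, show F.θ r F.a = F.θ r' F.a from h, map_inv]; simp
      have h2 := hfree _ _ h1
      rw [map_mul, map_inv, inv_mul_eq_one] at h2
      exact h2.symm, fun i => by obtain ⟨r, hr⟩ := htrans i; exact ⟨⟨_, r, rfl⟩, hr⟩⟩
    rw [Nat.card_congr e, h4]
  have hR32 : Nat.card R = 32 := by rw [← K0.card_mul_index, hK8, hidx]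
  have hu2 : ∀ z : (ZMod 3)ˣ, z * z = 1 := by decide
  -- the centre consists of scalars
  have hcK : Subgroup.center R ≤ K0 := by
    intro z hz
    refine MonoidHom.mem_ker.2 ?_
    by_contra hne
    have hj : F.θ z F.a ≠ F.a := fun h => hne (hfree z _ h)
    obtain ⟨d, hd, hsep⟩ := F.sep F.a _ (Ne.symm hj)
    have hcz : ∀ y, ρ (z : S) (ρ d y) = ρ d (ρ (z : S) y) := fun y => by
      rw [← apply_mul, ← apply_mul]
      exact congrArg (fun g => ρ g y) (congrArg Subtype.val (Subgroup.mem_center_iff.1 hz ⟨d, hD.le hd⟩)).symm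
    have h1 := hcz (F.vec F.a)
    have hs : ((F.sc z F.a : (ZMod 3)ˣ) : ZMod 3) ≠ 0 := Units.ne_zero _
    rcases hsep with ⟨hi, hjd⟩ | ⟨hi, hjd⟩
    · rw [hi, F.sc_spec, map_smul, hjd, smul_neg] at h1
      exact F.ne (F.θ z F.a) ((smul_eq_zero.1 (eq_zero_of_eq_neg h1)).resolve_left hs)
    · rw [hi, map_neg, F.sc_spec, map_smul, hjd] at h1
      exact F.ne (F.θ z F.a) ((smul_eq_zero.1 (eq_zero_of_eq_neg h1.symm)).resolve_left hs)
  have hscal : ∀ z ∈ Subgroup.center R, ∀ i, F.sc z i = F.sc z F.a := by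
    intro z hz i
    obtain ⟨r, rfl⟩ := htrans i
    have h1 := F.sc_mul z r F.a
    rw [← Subgroup.mem_center_iff.1 hz r, F.sc_mul r z, hK0i (hcK hz), mul_comm] at h1
    exact (mul_right_cancel h1).symm
  have hcen_of : ∀ z ∈ K0, (∀ i, F.sc z i = F.sc z F.a) → z ∈ Subgroup.center R := by
    intro z hz hc
    rw [Subgroup.mem_center_iff]
    intro r
    refine (commutatorElement_eq_one_iff_mul_comm.1 (Subtype.ext (F.ext_vec hR (⁅r, z⁆).2 hρ fun i => ?_)))
    have key : ∀ i, ρ (z : S) (F.vec i) = ((F.sc z F.a : (ZMod 3)ˣ) : ZMod 3) • F.vec i := fun i => by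
      rw [F.sc_spec, hK0i hz, hc]
    have e : ρ ((r * z : R) : S) (ρ ((r⁻¹ * z⁻¹ : R) : S) (F.vec i)) = F.vec i := by
      have hcomm : ∀ k, ρ ((r * z : R) : S) (F.vec k) = ρ ((z * r : R) : S) (F.vec k) := fun k => by
        simp only [Subgroup.coe_mul, apply_mul, key, F.sc_spec r k, map_smul]
        rw [smul_comm]
      have h2 : ρ ((r⁻¹ * z⁻¹ : R) : S) (F.vec i) =
          ((F.sc (r⁻¹ * z⁻¹) i : (ZMod 3)ˣ) : ZMod 3) • F.vec (F.θ (r⁻¹ * z⁻¹) i) := F.sc_spec _ _
      rw [h2, map_smul, hcomm, ← map_smul, ← h2, ← apply_mul, ← Subgroup.coe_mul,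
        show z * r * (r⁻¹ * z⁻¹) = 1 by group, OneMemClass.coe_one, map_one, Module.End.one_apply]
    rw [← apply_mul, ← Subgroup.coe_mul] at e
    rw [commutatorElement_def, show r * z * r⁻¹ * z⁻¹ = r * z * (r⁻¹ * z⁻¹) by group]
    exact e
  have hsqc : ∀ r : R, r * r ∈ Subgroup.center R := by
    intro r
    have hrK : r * r ∈ K0 := MonoidHom.mem_ker.2 (Equiv.ext fun i => hsq r i)
    refine hcen_of _ hrK fun i => ?_
    by_cases hr : F.θ r F.a = F.a
    · have h1 := hfree r _ hr
      rw [F.sc_mul, F.sc_mul, h1, Equiv.Perm.one_apply, Equiv.Perm.one_apply, hu2, hu2]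
    · -- two pairs
      have hij : ∀ i, F.θ r i ≠ i := fun i h => hr (by rw [hfree r i h]; rfl)
      have hinv : ∀ i, F.θ r (F.θ r i) = i := fun i => by rw [← Equiv.Perm.mul_apply, ← map_mul]; exact hsq r i
      set g : ι → (ZMod 3)ˣ := fun i => F.sc r (F.θ r i) * F.sc r i
      have hg : ∀ i, F.sc (r * r) i = g i := fun i => F.sc_mul r r i
      have hgθ : ∀ i, g (F.θ r i) = g i := fun i => by simp only [g, hinv, mul_comm]
      by_cases hia : i = F.a ∨ i = F.θ r F.a
      · rcases hia with rfl | rfl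
        · rfl
        · rw [hg, hg, hgθ]
      · push Not at hia
        have huniv : (Finset.univ : Finset ι) = {F.a, F.θ r F.a, i, F.θ r i} := by
          refine (Finset.eq_univ_of_card _ ?_).symm
          rw [← Nat.card_eq_fintype_card, h4, Finset.card_insert_of_notMem, Finset.card_insert_of_notMem,
            Finset.card_insert_of_notMem, Finset.card_singleton]
          · simpa using (hij i).symm
          · simp only [Finset.mem_insert, Finset.mem_singleton]
            rintro (h | h)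
            · exact hia.2 h.symm
            · exact hia.1 ((F.θ r).injective h).symm
          · simp only [Finset.mem_insert, Finset.mem_singleton]
            rintro (h | h | h)
            · exact hij F.a h.symm
            · exact hia.1 h.symm
            · exact hia.2 (by rw [h, hinv])
        have hp := F.prod_sc hR r
        rw [huniv, Finset.prod_insert, Finset.prod_insert, Finset.prod_insert, Finset.prod_singleton] at hp
        · rw [hg, hg]
          have h1 : g F.a * g i = 1 := by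
            simp only [g]
            rw [← hp]
            ac_rfl
          exact (eq_inv_of_mul_eq_one_right h1).trans (inv_eq_of_mul_eq_one_left (hu2 _))
        · simpa using (hij i).symm
        · simp only [Finset.mem_insert, Finset.mem_singleton]
          rintro (h | h)
          · exact hia.2 h.symm
          · exact hia.1 ((F.θ r).injective h).symm
        · simp only [Finset.mem_insert, Finset.mem_singleton]
          rintro (h | h | h)
          · exact hij F.a h.symm
          · exact hia.1 h.symm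
          · exact hia.2 (by rw [h, hinv])
  have hcomm : commutator R ≤ Subgroup.center R := by
    rw [commutator_def, Subgroup.commutator_le]
    intro x _ y _
    have e : ⁅x, y⁆ = (x * y * (x * y)) * (y⁻¹ * (x * x)⁻¹ * y) * (y * y)⁻¹ := by
      simp only [commutatorElement_def]; group
    rw [e]
    refine mul_mem (mul_mem (hsqc _) ?_) (inv_mem (hsqc y))
    have := (inferInstance : (Subgroup.center R).Normal).conj_mem _ (inv_mem (hsqc x)) y⁻¹
    simpa using this
  haveI : Nontrivial R := Finite.one_lt_card_iff_nontrivial.1 (by rw [hR32]; norm_num)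
  have hc2 : Nat.card (Subgroup.center R) = 2 := by
    refine le_antisymm ?_ ?_
    · have hinj : Function.Injective (fun z : Subgroup.center R => F.sc (z : R) F.a) := fun z z' h => by
        have h1 : ψ ⟨z, hcK z.2⟩ = ψ ⟨z', hcK z'.2⟩ := funext fun i => by
          show F.sc (z : R) i = F.sc (z' : R) i
          rw [hscal _ z.2, hscal _ z'.2]; exact h
        exact Subtype.ext (congrArg (fun k : K0 => (k : R)) (hψ h1))
      refine (Nat.card_le_card_of_injective _ hinj).trans (le_of_eq ?_)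
      rw [Nat.card_eq_fintype_card]; decide
    · haveI := hR.two.center_nontrivial
      exact Finite.one_lt_card
  have hnab : commutator R ≠ ⊥ := by
    intro hbot
    obtain ⟨r, hr⟩ := htrans (F.σ F.a)
    have hrc : r ∈ Subgroup.center R := by
      rw [Subgroup.mem_center_iff]
      intro q
      refine commutatorElement_eq_one_iff_mul_comm.1 (Subgroup.mem_bot.1 (hbot ▸ ?_))
      rw [commutator_def]
      exact Subgroup.commutator_mem_commutator (Subgroup.mem_top _) (Subgroup.mem_top _)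
    exact F.cyc_ne (hr.symm.trans (hK0i (hcK hrc) F.a))
  have hceq : commutator R = Subgroup.center R := by
    refine Subgroup.eq_of_le_of_card_ge hcomm ?_
    rw [hc2]
    haveI : Nontrivial (commutator R) := (Subgroup.nontrivial_iff_ne_bot _).2 hnab
    exact Finite.one_lt_card
  refine ⟨⟨⟨hR.two, ?_, hceq⟩, hc2⟩, hR32, K0.map R.subtype, Subgroup.map_subtype_le _, ⟨?_, ?_⟩,
    by rw [Subgroup.card_map_of_injective R.subtype_injective, hK8]⟩
  · exact le_antisymm (CfsgLib.PGroup.frattini_le_of_elementary (p := 2)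
      (fun x y => hcomm (by rw [commutator_def]; exact Subgroup.commutator_mem_commutator (Subgroup.mem_top _) (Subgroup.mem_top _)))
      (fun x => by rw [pow_two]; exact hsqc x)) (hceq ▸ CfsgLib.PGroup.commutator_le_frattini hR.two)
  · exact ⟨⟨by
      rintro ⟨_, x, hx, rfl⟩ ⟨_, y, hy, rfl⟩
      refine Subtype.ext ?_
      show R.subtype x * R.subtype y = R.subtype y * R.subtype x
      rw [← map_mul, ← map_mul]
      have h1 : (⟨x, hx⟩ : K0) * ⟨y, hy⟩ = ⟨y, hy⟩ * ⟨x, hx⟩ := hψ (by rw [map_mul, map_mul, mul_comm])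
      exact congrArg (fun k : K0 => R.subtype (k : R)) h1⟩⟩
  · rintro _ ⟨x, hx, rfl⟩
    rw [← map_pow]
    have h1 : (⟨x, hx⟩ : K0) ^ 2 = 1 := hψ (by
      rw [map_pow, map_one]
      exact funext fun i => by rw [Pi.pow_apply, pow_two]; exact hu2 _)
    have h2 : x ^ 2 = 1 := congrArg Subtype.val h1
    rw [h2, map_one]

end Frame

end CfsgLib.FGStruct.CubicBlock
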